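import Cfsg.Agent.Lib.Invol.AbelTwo.Closed.Struct

/-!
# Goldschmidt's structure theorem for `K = ⟨A^G⟩`

The general statement reduces to `Q = K/O(K)`, whose subgroup `Ā` has normal closure `Q` by Frattini.
-/

set_option autoImplicit false
set_option linter.unusedSectionVars false
set_option linter.style.haveILetI false

namespace Cfsg.Agent.Invol.AbelTwo.Closed

open Subgroup Cfsg.Agent.Grp

universe u

variable {G : Type u} [Group G] [Finite G]

/-- The normal closure of `A` inside `K = ⟨A^G⟩` is `K`. -/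
theorem normalClosure_subgroupOf (S : Sylow 2 G) {A : Subgroup G} (hsc : Cfsg.IsStronglyClosed A (S : Subgroup G))
    {K : Subgroup G} [K.Normal] (hK : K = normalClosure (A : Set G)) :
    normalClosure ((A.subgroupOf K : Subgroup ↥K) : Set ↥K) = ⊤ := by
  haveI : Fact (Nat.Prime 2) := ⟨Nat.prime_two⟩
  have hAK : A ≤ K := hK ▸ le_normalClosure
  set N := normalClosure ((A.subgroupOf K : Subgroup ↥K) : Set ↥K) with hNdef
  haveI : N.Normal := normalClosure_normal
  have hp : IsPGroup 2 ((S : Subgroup G).subgroupOf K) := S.isPGroup'.comap_of_injective _ (subtype_injective _)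
  have hfr := Sylow.normalizer_sup_eq_top
    (hp.toSylow (not_dvd_relIndex_sylow S (inferInstance : K.Normal).isSubnormal))
  set M := N.map K.subtype with hM
  have hKM : K ≤ normalizer (M : Set G) := fun k hk => mem_normalizer_fintype (by
    rintro _ ⟨x, hx, rfl⟩
    exact ⟨⟨k, hk⟩ * x * ⟨k, hk⟩⁻¹, (inferInstance : N.Normal).conj_mem x hx _, rfl⟩)
  have hn : ∀ n : G, (∀ a ∈ A, n * a * n⁻¹ ∈ A) → n ∈ normalizer (M : Set G) := by
    intro n hn
    let N' : Subgroup ↥K :=
      { carrier := {x | n * (x : G) * n⁻¹ ∈ M}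
        one_mem' := by simp
        mul_mem' := fun {x y} hx hy => by
          simp only [Set.mem_setOf_eq, Subgroup.coe_mul] at *
          rw [show n * ((x : G) * y) * n⁻¹ = n * x * n⁻¹ * (n * y * n⁻¹) by group]
          exact mul_mem hx hy
        inv_mem' := fun {x} hx => by
          simp only [Set.mem_setOf_eq, Subgroup.coe_inv] at *
          rw [show n * (x : G)⁻¹ * n⁻¹ = (n * x * n⁻¹)⁻¹ by group]
          exact inv_mem hx }
    haveI : N'.Normal := ⟨fun x hx k => by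
      show n * ((k * x * k⁻¹ : ↥K) : G) * n⁻¹ ∈ M
      rw [show n * ((k * x * k⁻¹ : ↥K) : G) * n⁻¹ = n * k * n⁻¹ * (n * x * n⁻¹) * (n * k * n⁻¹)⁻¹ by
        simp [mul_assoc]]
      exact mem_conj_normalizer (hKM ((inferInstance : K.Normal).conj_mem k k.2 n)) hx⟩
    have hle : N ≤ N' := normalClosure_le_normal fun x hx => by
      show n * (x : G) * n⁻¹ ∈ M
      have h1 := hn x (mem_subgroupOf.1 hx)
      exact ⟨⟨_, hAK h1⟩, subset_normalClosure (mem_subgroupOf.2 h1), rfl⟩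
    refine mem_normalizer_fintype ?_
    rintro _ ⟨x, hx, rfl⟩
    exact hle hx
  have htop : normalizer (M : Set G) = ⊤ := by
    rw [eq_top_iff, ← hfr]
    refine sup_le (fun g hg => hn g fun a ha => hsc.2 a ha g ?_) hKM
    obtain ⟨b, hb, e⟩ := mem_conj_normalizer hg (x := a) ⟨⟨a, hAK ha⟩, mem_subgroupOf.2 (hsc.1 ha), rfl⟩
    exact e ▸ (mem_subgroupOf.1 hb)
  haveI : M.Normal := normalizer_eq_top_iff.1 htop
  have hKle : K ≤ M := by
    rw [hK]
    exact normalClosure_le_normal fun a ha => ⟨⟨a, hAK ha⟩, subset_normalClosure (mem_subgroupOf.2 ha), rfl⟩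
  refine eq_top_iff.2 fun x _ => ?_
  obtain ⟨y, hy, e⟩ := hKle x.2
  exact Subtype.ext e ▸ hy

/-- The structure theorem. -/
theorem structure_thm (hub : JRRec.{u}) (S : Sylow 2 G) (A : Subgroup G) (hA : IsMulCommutative ↥A)
    (hsc : Cfsg.IsStronglyClosed A (S : Subgroup G)) (K : Subgroup G) (hK : K = normalClosure (A : Set G))
    (Q : Type u) [Group Q] (π : ↥K →* Q) (hπ : Function.Surjective π) (hker : π.ker = Cfsg.pPrimeCore 2 ↥K) :
    Cfsg.pCore 2 Q ⊔ commutator Q = ⊤ ∧ Cfsg.pCore 2 Q ≤ center Q ∧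
      (∃ T : Sylow 2 Q, (A.subgroupOf K).map π ≤ (T : Subgroup Q) ∧
        (A.subgroupOf K).map π = Cfsg.pCore 2 Q ⊔ Cfsg.omegaOne 2 (T : Subgroup Q)) ∧
      ∃ (ι : Type) (_ : Fintype ι) (L : ι → Type u) (_ : ∀ i, Group (L i)),
        (∀ i, IsSimpleGroup (L i) ∧ ¬ IsMulCommutative (L i) ∧ Cfsg.IsGoldschmidtGroup (L i)) ∧
          Nonempty (↥(commutator Q) ⧸ center ↥(commutator Q) ≃* ((i : ι) → L i)) := by
  haveI : Fact (Nat.Prime 2) := ⟨Nat.prime_two⟩
  haveI : K.Normal := hK ▸ normalClosure_normal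
  haveI : Finite Q := Finite.of_surjective π hπ
  have hAK : A ≤ K := hK ▸ le_normalClosure
  have hp : IsPGroup 2 ((S : Subgroup G).subgroupOf K) := S.isPGroup'.comap_of_injective _ (subtype_injective _)
  set SK : Sylow 2 ↥K := hp.toSylow (not_dvd_relIndex_sylow S (inferInstance : K.Normal).isSubnormal) with hSK
  have hSKmem : ∀ x : ↥K, x ∈ (SK : Subgroup ↥K) ↔ (x : G) ∈ (S : Subgroup G) := fun x => Iff.rfl
  have hscK : Cfsg.IsStronglyClosed (A.subgroupOf K) (SK : Subgroup ↥K) :=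
    ⟨fun x hx => (hSKmem x).2 (hsc.1 (mem_subgroupOf.1 hx)), fun x hx g hg =>
      mem_subgroupOf.2 (hsc.2 x (mem_subgroupOf.1 hx) g ((hSKmem _).1 hg))⟩
  set O := Cfsg.pPrimeCore 2 ↥K with hO
  haveI : O.Normal := Grp.pPrimeCore_isNormal
  set T : Sylow 2 Q := SK.mapSurjective hπ
  have hiff : ∀ x y : ↥K, π x = π y ↔ QuotientGroup.mk' O x = QuotientGroup.mk' O y := fun x y => by
    rw [QuotientGroup.mk'_apply, QuotientGroup.mk'_apply, QuotientGroup.eq, ← hker, MonoidHom.mem_ker,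
      map_mul, map_inv, inv_mul_eq_one]
  have d : Data ((A.subgroupOf K).map π) T := by
    refine ⟨?_, ?_, ?_, ?_⟩
    · haveI : (Cfsg.pPrimeCore 2 Q).Normal := Grp.pPrimeCore_isNormal
      set E := (Cfsg.pPrimeCore 2 Q).comap π with hE
      have h1 : Nat.card ↥E = Nat.card ↥π.ker * Nat.card ↥(Cfsg.pPrimeCore 2 Q) := by
        have e1 := E.card_mul_index
        have e2 := π.ker.card_mul_index
        rw [hE, index_comap_of_surjective _ hπ] at e1
        rw [index_ker, MonoidHom.range_eq_top.2 hπ, card_top, ← (Cfsg.pPrimeCore 2 Q).card_mul_index,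
          ← mul_assoc] at e2
        exact Nat.eq_of_mul_eq_mul_right (Nat.pos_of_ne_zero index_ne_zero_of_finite) (e1.trans e2.symm)
      have h2 : E ≤ O := Grp.le_pPrimeCore inferInstance (by
        rw [h1, hker]
        exact Nat.Coprime.mul_left Grp.pPrimeCore_coprime Grp.pPrimeCore_coprime)
      refine (eq_bot_iff_forall _).2 fun q hq => ?_
      obtain ⟨x, rfl⟩ := hπ q
      have h3 : x ∈ π.ker := hker.symm ▸ h2 hq
      exact h3
    · rintro _ ⟨a, ha, rfl⟩ _ ⟨b, hb, rfl⟩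
      rw [← map_mul, ← map_mul]
      exact congrArg π (Subtype.ext (congrArg Subtype.val
        (hA.is_comm.comm ⟨_, mem_subgroupOf.1 ha⟩ ⟨_, mem_subgroupOf.1 hb⟩) : _))
    · have h1 := S1250.result SK (A.subgroupOf K) hscK O
      rw [Sylow.coe_mapSurjective hπ]
      refine ⟨map_mono hscK.1, ?_⟩
      rintro _ ⟨a, ha, rfl⟩ g hg
      obtain ⟨g, rfl⟩ := hπ g
      rw [← map_inv, ← map_mul, ← map_mul] at hg ⊢
      obtain ⟨s, hs, e⟩ := hg
      have h2 : QuotientGroup.mk' O (g * a * g⁻¹) ∈ (SK : Subgroup ↥K).map (QuotientGroup.mk' O) :=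
        ⟨s, hs, (hiff _ _).1 e⟩
      rw [map_mul, map_mul, map_inv] at h2
      obtain ⟨b, hb, e'⟩ := h1.2 _ ⟨a, ha, rfl⟩ _ h2
      rw [← map_inv, ← map_mul, ← map_mul] at e'
      exact ⟨b, hb, (hiff _ _).2 e'⟩
    · rw [coe_map, ← map_normalClosure _ π hπ, normalClosure_subgroupOf S hsc hK,
        Subgroup.map_top_of_surjective π hπ]
  exact ⟨d.pCore_sup_commutator, d.pCore_le_center, ⟨T, d.closed.1, d.eq_sup_omega⟩, d.exists_product hub⟩

end Cfsg.Agent.Invol.AbelTwo.Closed
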