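import Mathlib

/-!
# A group of order 16 with an automorphism of odd order fixing only a central involution

It is abelian.
-/

set_option autoImplicit false
set_option linter.style.haveILetI false

namespace Cfsg.Agent.Invol.AbelTwo.Closed

open Subgroup

variable {U : Type*} [Group U] [Finite U]

/-- An automorphism of odd order permuting two points fixes them. -/
theorem fix_of_pair {α : Type*} (f : Equiv.Perm α) {n : ℕ} (hn : Odd n) (hfn : f ^ n = 1) {u v : α}
    (hu : f u = v) (hv : f v = u) : f u = u := by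
  obtain ⟨k, rfl⟩ := hn
  have h2 : ∀ i : ℕ, (f ^ (2 * i)) u = u := by
    intro i
    induction i with
    | zero => simp
    | succ i ih =>
      rw [show 2 * (i + 1) = 2 + 2 * i by ring, pow_add, Equiv.Perm.mul_apply, ih, pow_two,
        Equiv.Perm.mul_apply, hu, hv]
  have h3 : (f ^ (2 * k + 1)) u = u := by rw [hfn]; rfl
  rwa [pow_succ', Equiv.Perm.mul_apply, h2] at h3

/-- The abelian conclusion. -/
theorem comm_of_fixed_pair (h16 : Nat.card U = 16) {z : U} (hz : z ∈ center U) (hz1 : z ≠ 1)
    (φ : MulAut U) (hodd : Odd (orderOf φ)) (hfix : ∀ u, φ u = u → u = 1 ∨ u = z) (hφz : φ z = z) :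
    ∀ a b : U, a * b = b * a := by
  classical
  haveI : Fact (Nat.Prime 2) := ⟨Nat.prime_two⟩
  haveI : Nontrivial U := ⟨⟨z, 1, hz1⟩⟩
  set n := orderOf φ
  have hperm : (MulAut.toPerm U φ) ^ n = 1 := by rw [← map_pow, pow_orderOf_eq_one, map_one]
  have hpair : ∀ u v : U, φ u = v → φ v = u → φ u = u := fun u v hu hv =>
    fix_of_pair (MulAut.toPerm U φ) hodd hperm (show MulAut.toPerm U φ u = v from hu) hv
  -- invariant subgroups of order four over `z` do not exist
  have hfour : ∀ W : Subgroup U, z ∈ W → Nat.card W ≠ 4 ∨ ∃ w ∈ W, φ w ∉ W := by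
    intro W hzW
    by_contra hcon
    push Not at hcon
    obtain ⟨h4, hinv⟩ := hcon
    obtain ⟨w, hw, hw1, hwz⟩ : ∃ w ∈ W, w ≠ 1 ∧ w ≠ z := by
      by_contra hne
      push Not at hne
      have hle : (W : Set U) ⊆ {1, z} := fun w hw => or_iff_not_imp_left.2 fun h1 => hne w hw h1
      have := Set.ncard_le_ncard hle (Set.toFinite _)
      rw [← Nat.card_coe_set_eq, show Nat.card (W : Set U) = 4 from h4, Set.ncard_pair (Ne.symm hz1)] at this
      omega
    obtain ⟨v, hv, hv1, hvz, hvw⟩ : ∃ v ∈ W, v ≠ 1 ∧ v ≠ z ∧ v ≠ w := ⟨w * z, mul_mem hw hzW,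
      fun e => hwz (by
        have h2 : z * z = 1 := by
          rcases hfix (z * z) (by rw [map_mul, hφz]) with h | h
          · exact h
          · exact absurd (mul_eq_left.1 h) hz1
        calc w = w * (z * z) := by rw [h2, mul_one]
          _ = (w * z) * z := by group
          _ = z := by rw [e, one_mul]),
      fun e => hw1 (mul_eq_right.1 e), fun e => hz1 (mul_eq_left.1 e)⟩
    have hset : ∀ x ∈ W, x = 1 ∨ x = z ∨ x = w ∨ x = v := by
      have hsub : ({1, z, w, v} : Set U) ⊆ W := by
        rintro x (rfl | rfl | rfl | rfl)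
        exacts [one_mem _, hzW, hw, hv]
      have hc : ({1, z, w, v} : Set U).ncard = 4 := by
        rw [Set.ncard_insert_of_notMem (by simp [Ne.symm hz1, Ne.symm hw1, Ne.symm hv1]) (Set.toFinite _),
          Set.ncard_insert_of_notMem (by simp [Ne.symm hwz, Ne.symm hvz]) (Set.toFinite _),
          Set.ncard_pair (Ne.symm hvw)]
      have he := Set.eq_of_subset_of_ncard_le hsub
        (by rw [hc, ← Nat.card_coe_set_eq]; exact h4.le) (Set.toFinite _)
      intro x hx
      simpa using (he ▸ hx : x ∈ ({1, z, w, v} : Set U))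
    have himg : ∀ x ∈ W, x ≠ 1 → x ≠ z → φ x = w ∨ φ x = v := fun x hx h1 h2 => by
      rcases hset _ (hinv x hx) with e | e | e | e
      · exact absurd (φ.injective (e.trans (map_one φ).symm)) h1
      · exact absurd (φ.injective (e.trans hφz.symm)) h2
      · exact Or.inl e
      · exact Or.inr e
    have hnot : ∀ x, x ≠ 1 → x ≠ z → φ x ≠ x := fun x h1 h2 e => (hfix x e).elim h1 h2
    have e1 := (himg w hw hw1 hwz).resolve_left (hnot w hw1 hwz)
    have e2 := (himg v hv hv1 hvz).resolve_right (hnot v hv1 hvz)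
    exact hnot w hw1 hwz (hpair w v e1 e2)
  have hU : IsPGroup 2 U := IsPGroup.of_card (n := 4) (by rw [h16]; norm_num)
  by_contra hnc
  push Not at hnc
  obtain ⟨a0, b0, hab0⟩ := hnc
  -- the centre has order two
  have hzz : center U ≠ ⊤ := fun e => hab0 (mem_center_iff.1 (e ▸ mem_top b0 : b0 ∈ center U) a0)
  have hinvC : ∀ w ∈ center U, φ w ∈ center U := fun w hw => mem_center_iff.2 fun g => by
    obtain ⟨g, rfl⟩ := φ.surjective g
    rw [← map_mul, ← map_mul, mem_center_iff.1 hw]
  have hC2 : Nat.card (center U) = 2 := by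
    obtain ⟨k, hk, hk'⟩ := (Nat.dvd_prime_pow Nat.prime_two).1
      (show Nat.card (center U) ∣ 2 ^ 4 from by rw [show 2 ^ 4 = 16 from rfl, ← h16]; exact card_subgroup_dvd_card _)
    have hk1 : k ≠ 0 := by
      rintro rfl
      rw [pow_zero] at hk'
      exact hz1 (mem_bot.1 (eq_bot_of_card_eq _ hk' ▸ hz))
    have hk4 : k ≠ 4 := by
      rintro rfl
      exact hzz (eq_top_of_card_eq _ (hk'.trans h16.symm))
    have hk3 : k ≠ 3 := by
      rintro rfl
      have hq : Nat.card (U ⧸ center U) = 2 := by
        have := card_eq_card_quotient_mul_card_subgroup (center U)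
        rw [h16, hk'] at this
        omega
      haveI : IsCyclic (U ⧸ center U) := isCyclic_of_prime_card hq
      exact hab0 ((commutative_of_cyclic_center_quotient (QuotientGroup.mk' (center U))
        (by rw [QuotientGroup.ker_mk'])) a0 b0)
    have hk2 : k ≠ 2 := by
      rintro rfl
      rcases hfour (center U) hz with h | ⟨w, hw, h⟩
      · exact h hk'
      · exact h (hinvC w hw)
    rw [hk', show k = 1 by omega, pow_one]
  have hCz : ∀ w ∈ center U, w = 1 ∨ w = z := fun w hw => by
    have hle : ({1, z} : Set U) ⊆ (center U : Set U) := by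
      rintro x (rfl | rfl)
      exacts [one_mem _, hz]
    have he := Set.eq_of_subset_of_ncard_le hle
      (by rw [Set.ncard_pair (Ne.symm hz1), ← Nat.card_coe_set_eq]; exact hC2.le) (Set.toFinite _)
    simpa using (he ▸ hw : w ∈ ({1, z} : Set U))
  -- the second centre
  set q := QuotientGroup.mk' (center U)
  set Z2 := (center (U ⧸ center U)).comap q with hZ2
  have hZ2inv : ∀ w ∈ Z2, φ w ∈ Z2 := by
    intro w hw
    refine mem_comap.2 (mem_center_iff.2 fun g => ?_)
    obtain ⟨g, rfl⟩ := QuotientGroup.mk'_surjective _ g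
    obtain ⟨g, rfl⟩ := φ.surjective g
    rw [← map_mul, ← map_mul, ← map_mul, ← map_mul, QuotientGroup.mk'_apply, QuotientGroup.mk'_apply,
      QuotientGroup.eq, ← map_inv, ← map_mul]
    refine hinvC _ ?_
    have h := mem_center_iff.1 (mem_comap.1 hw) (q g)
    rw [← map_mul, ← map_mul, QuotientGroup.mk'_apply, QuotientGroup.mk'_apply, QuotientGroup.eq] at h
    exact h
  have hq8 : Nat.card (U ⧸ center U) = 8 := by
    have := card_eq_card_quotient_mul_card_subgroup (center U)
    rw [h16, hC2] at this
    omega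
  have hZ2card : Nat.card Z2 = 2 * Nat.card (center (U ⧸ center U)) := by
    have h1 := Z2.card_mul_index
    have h2 := (center (U ⧸ center U)).card_mul_index
    rw [index_comap_of_surjective _ (QuotientGroup.mk'_surjective _), h16] at h1
    rw [hq8] at h2
    have hpos : 0 < (center (U ⧸ center U)).index := Nat.pos_of_ne_zero index_ne_zero_of_finite
    refine Nat.eq_of_mul_eq_mul_right hpos ?_
    rw [h1, mul_assoc, h2]
    try norm_num
  -- the quotient is abelian
  have hcl : ∀ a b : U, a⁻¹ * b⁻¹ * a * b ∈ center U := by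
    have htop : center (U ⧸ center U) = ⊤ := by
      obtain ⟨k, hk, hk'⟩ := (Nat.dvd_prime_pow Nat.prime_two).1
        (show Nat.card (center (U ⧸ center U)) ∣ 2 ^ 3 from by
          rw [show 2 ^ 3 = 8 from rfl, ← hq8]; exact card_subgroup_dvd_card _)
      haveI : Nontrivial (U ⧸ center U) := Finite.one_lt_card_iff_nontrivial.1 (by rw [hq8]; norm_num)
      haveI := (hU.to_quotient (center U)).center_nontrivial
      have h1 : 1 < Nat.card (center (U ⧸ center U)) := Finite.one_lt_card
      have hk1 : k ≠ 0 := by rintro rfl; rw [hk'] at h1; exact absurd h1 (by norm_num)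
      have hk2 : k ≠ 1 := by
        rintro rfl
        rcases hfour Z2 (mem_comap.2 (by
          rw [show q z = 1 from (QuotientGroup.eq_one_iff z).2 hz]; exact one_mem _)) with h | ⟨w, hw, h⟩
        · exact h (by rw [hZ2card, hk']; norm_num)
        · exact h (hZ2inv w hw)
      rcases (show k = 2 ∨ k = 3 by omega) with rfl | rfl
      · have hq2 : Nat.card ((U ⧸ center U) ⧸ center (U ⧸ center U)) = 2 := by
          have := card_eq_card_quotient_mul_card_subgroup (center (U ⧸ center U))
          rw [hq8, hk'] at this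
          omega
        haveI : IsCyclic ((U ⧸ center U) ⧸ center (U ⧸ center U)) := isCyclic_of_prime_card hq2
        exact eq_top_iff.2 fun x _ => mem_center_iff.2 fun y =>
          commutative_of_cyclic_center_quotient (QuotientGroup.mk' _) (by rw [QuotientGroup.ker_mk']) y x
      · exact eq_top_of_card_eq _ (hk'.trans (by rw [hq8]; norm_num))
    intro a b
    refine (QuotientGroup.eq_one_iff _).1 ?_
    show q (a⁻¹ * b⁻¹ * a * b) = 1
    have h := mem_center_iff.1 (htop ▸ mem_top (q b) : q b ∈ center (U ⧸ center U)) (q a)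
    rw [map_mul, map_mul, map_mul, map_inv, map_inv, mul_assoc, h]
    group
  -- commutation is bilinear with values in a group of order two
  have hidx : ∀ x : U, x ∉ center U → (centralizer ({x} : Set U)).index = 2 := by
    intro x hx
    let f : U →* ↥(center U) :=
      { toFun := fun y => ⟨y * x * y⁻¹ * x⁻¹, by simpa using hcl y⁻¹ x⁻¹⟩
        map_one' := Subtype.ext (by simp)
        map_mul' := fun y w => Subtype.ext (by
          have h := mem_center_iff.1 (show w * x * w⁻¹ * x⁻¹ ∈ center U by simpa using hcl w⁻¹ x⁻¹) y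
          show y * w * x * (y * w)⁻¹ * x⁻¹ = y * x * y⁻¹ * x⁻¹ * (w * x * w⁻¹ * x⁻¹)
          have h' := mem_center_iff.1 (show w * x * w⁻¹ * x⁻¹ ∈ center U by simpa using hcl w⁻¹ x⁻¹)
            (y * x * y⁻¹ * x⁻¹)
          rw [h']
          calc y * w * x * (y * w)⁻¹ * x⁻¹ = y * (w * x * w⁻¹ * x⁻¹) * (x * y⁻¹ * x⁻¹) := by group
            _ = (w * x * w⁻¹ * x⁻¹) * y * (x * y⁻¹ * x⁻¹) := by rw [h]
            _ = _ := by group) }
    have hker : f.ker = centralizer ({x} : Set U) := by
      ext y
      rw [MonoidHom.mem_ker, mem_centralizer_singleton_iff]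
      constructor
      · intro h
        exact mul_inv_eq_iff_eq_mul.1 (mul_inv_eq_one.1 (congrArg Subtype.val h))
      · intro h
        refine Subtype.ext ?_
        show y * x * y⁻¹ * x⁻¹ = 1
        rw [h]; group
    rw [← hker, index_ker]
    have h1 : Nat.card f.range ∣ 2 := hC2 ▸ card_subgroup_dvd_card _
    refine ((Nat.dvd_prime Nat.prime_two).1 h1).resolve_left fun h => hx (mem_center_iff.2 fun g => ?_)
    have h3 : f g = 1 := by
      have h4 : f g ∈ f.range := ⟨g, rfl⟩
      rw [eq_bot_of_card_eq _ h] at h4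
      exact mem_bot.1 h4
    have h5 : g ∈ f.ker := MonoidHom.mem_ker.2 h3
    rw [hker] at h5
    exact mem_centralizer_singleton_iff.1 h5
  have ha : a0 ∉ center U := fun h => hab0 (mem_center_iff.1 h b0).symm
  have hb : b0 ∉ center U := fun h => hab0 (mem_center_iff.1 h a0)
  set C := centralizer ({a0} : Set U) ⊓ centralizer ({b0} : Set U)
  have hC4 : 4 ≤ Nat.card C := by
    have h1 := C.card_mul_index
    have h2 : C.index ≤ 4 := index_inf_le.trans (by rw [hidx a0 ha, hidx b0 hb])
    rw [h16] at h1
    nlinarith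
  obtain ⟨u, hu, huC⟩ : ∃ u ∈ C, u ∉ center U := by
    by_contra hne
    push Not at hne
    have := card_le_of_le (show C ≤ center U from hne)
    omega
  -- everything commutes with `u`
  have hua : u ∈ centralizer ({a0} : Set U) := hu.1
  have hub : u ∈ centralizer ({b0} : Set U) := hu.2
  set D := centralizer ({u} : Set U)
  have haD : a0 ∈ D := mem_centralizer_singleton_iff.2 (mem_centralizer_singleton_iff.1 hua).symm
  have hbD : b0 ∈ D := mem_centralizer_singleton_iff.2 (mem_centralizer_singleton_iff.1 hub).symm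
  -- `D` has order eight and centre containing `u` and `z`
  have hD8 : Nat.card D = 8 := by
    have := D.card_mul_index
    rw [hidx u huC, h16] at this
    omega
  haveI hDc : ∀ a b : ↥D, a * b = b * a := by
    have huD : u ∈ D := mem_centralizer_singleton_iff.2 rfl
    have hzD : z ∈ D := mem_centralizer_singleton_iff.2 (mem_center_iff.1 hz u).symm
    have h4 : 4 ≤ Nat.card (center ↥D) := by
      have hsub : ({⟨1, one_mem D⟩, ⟨z, hzD⟩, ⟨u, huD⟩} : Set ↥D) ⊆ (center ↥D : Set ↥D) := by
        rintro x (rfl | rfl | rfl) <;> refine mem_center_iff.2 fun g => Subtype.ext ?_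
        · show (g : U) * 1 = 1 * g; simp
        · exact mem_center_iff.1 hz g
        · exact mem_centralizer_singleton_iff.1 g.2
      have h3 : ({⟨1, one_mem D⟩, ⟨z, hzD⟩, ⟨u, huD⟩} : Set ↥D).ncard = 3 :=
        Set.ncard_eq_three.2 ⟨⟨1, one_mem D⟩, ⟨z, hzD⟩, ⟨u, huD⟩, fun e => hz1 (congrArg Subtype.val e).symm,
          fun e => huC ((show (1 : U) = u from congrArg Subtype.val e) ▸ one_mem _),
          fun e => huC ((show z = u from congrArg Subtype.val e) ▸ hz), rfl⟩
      have h5 := Set.ncard_le_ncard hsub (Set.toFinite _)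
      rw [h3, ← Nat.card_coe_set_eq] at h5
      have h6 : Nat.card (center ↥D) ∣ 8 := hD8 ▸ card_subgroup_dvd_card _
      have h7 := Nat.le_of_dvd (by norm_num) h6
      have h5' : 3 ≤ Nat.card (center ↥D) := h5
      generalize Nat.card (center ↥D) = m at *
      interval_cases m <;> omega
    have hq : Nat.card (↥D ⧸ center ↥D) ∣ 2 := by
      have h1 := card_eq_card_quotient_mul_card_subgroup (center ↥D)
      rw [hD8] at h1
      have hpos : 0 < Nat.card (↥D ⧸ center ↥D) := Nat.card_pos
      have hle : Nat.card (↥D ⧸ center ↥D) ≤ 2 := by nlinarith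
      generalize Nat.card (↥D ⧸ center ↥D) = m at *
      interval_cases m <;> norm_num
    haveI : IsCyclic (↥D ⧸ center ↥D) := by
      rcases (Nat.dvd_prime Nat.prime_two).1 hq with h | h
      · haveI : Subsingleton (↥D ⧸ center ↥D) := (Nat.card_eq_one_iff_unique.1 h).1
        exact isCyclic_of_subsingleton
      · exact isCyclic_of_prime_card h
    exact fun a b => commutative_of_cyclic_center_quotient (QuotientGroup.mk' _) (by rw [QuotientGroup.ker_mk']) a b
  exact hab0 (congrArg Subtype.val (hDc ⟨a0, haD⟩ ⟨b0, hbD⟩))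

end Cfsg.Agent.Invol.AbelTwo.Closed
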