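import Cfsg.Agent.Lib.Invol.AbelTwo.Closed.Core
import Cfsg.Agent.Lib.Invol.AbelTwo.Closed.Sixteen
import Cfsg.Agent.Lib.Invol.ClassTwo.Local
import Cfsg.Agent.Lib.Recog.SuzukiMaxOrders

/-!
# The centres of the moved components lie in `A`

Only the covers of `Sz(8)` need an argument: a missing central involution would make a section of order 16 of
a Sylow subgroup abelian, against its lying in the focal subgroup.
-/

set_option autoImplicit false
set_option linter.unusedSectionVars false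
set_option linter.style.haveILetI false

namespace Cfsg.Agent.Invol.AbelTwo.Closed

open Subgroup Cfsg.Agent.Grp Fus Fus.Gold
open scoped commutatorElement

universe u

/-- A central element of a Sylow subgroup of a perfect group lies in the derived Sylow subgroup. -/
theorem mem_commutator_of_central {H : Type u} [Group H] [Finite H] (hp : commutator H = ⊤) (P : Sylow 2 H)
    {z : H} (hz : z ∈ (P : Subgroup H)) (hzc : z ∈ center H) :
    (⟨z, hz⟩ : ↥(P : Subgroup H)) ∈ commutator ↥(P : Subgroup H) := by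
  haveI : Fact (Nat.Prime 2) := ⟨Nat.prime_two⟩
  let f : H →* Abelianization ↥(P : Subgroup H) := MonoidHom.transfer (Abelianization.of (G := ↥(P : Subgroup H)))
  have key : ∀ (k : ℕ) (g₀ : H), g₀⁻¹ * z ^ k * g₀ ∈ (P : Subgroup H) → g₀⁻¹ * z ^ k * g₀ = z ^ k :=
    fun k g₀ _ => by
      rw [mul_assoc, ← mem_center_iff.1 (pow_mem hzc k) g₀, inv_mul_cancel_left]
  have h1 : f z = Abelianization.of ⟨z ^ (P : Subgroup H).index, pow_mem hz _⟩ :=
    MonoidHom.transfer_eq_pow (Abelianization.of (G := ↥(P : Subgroup H))) z key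
  have h2 : f z = 1 := Abelianization.commutator_subset_ker f (hp ▸ mem_top z)
  rw [h1, ← MonoidHom.mem_ker, Abelianization.ker_of] at h2
  obtain ⟨j, hj⟩ := P.isPGroup' ⟨z, hz⟩
  have hco : (orderOf (⟨z, hz⟩ : ↥(P : Subgroup H))).Coprime (P : Subgroup H).index :=
    ((Nat.prime_two.coprime_iff_not_dvd.2 P.not_dvd_index).pow_left j).coprime_dvd_left
      (orderOf_dvd_of_pow_eq_one hj)
  obtain ⟨m, hm⟩ := exists_pow_eq_self_of_coprime hco.symm
  rw [← hm]
  exact pow_mem (show (⟨z, hz⟩ : ↥(P : Subgroup H)) ^ (P : Subgroup H).index ∈ _ from h2) m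

/-- A cover with central involution of a Bender group with non-elementary Sylow subgroups is one of `Sz(8)`. -/
theorem sz_eight {K : Type u} [Group K] [Finite K] (hK : Cfsg.IsQuasisimple K)
    (hB : Invol.CentInt.IsBenderGrp (K ⧸ center K)) (hz : 2 ∣ Nat.card (center K))
    (T0 : Sylow 2 (K ⧸ center K)) (hne : ∃ t ∈ (T0 : Subgroup (K ⧸ center K)), t * t ≠ 1) :
    ∀ T : Sylow 2 (K ⧸ center K), Nat.card ↥(T : Subgroup (K ⧸ center K)) = 64 ∧
      (OTLine.omegaOne (T : Subgroup (K ⧸ center K))).ncard = 8 ∧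
      ∃ t, Odd (orderOf t) ∧ (∀ x ∈ (T : Subgroup (K ⧸ center K)), t * x * t⁻¹ ∈ (T : Subgroup (K ⧸ center K))) ∧
        ∀ a ∈ OTLine.omegaOne (T : Subgroup (K ⧸ center K)), ∀ b ∈ OTLine.omegaOne (T : Subgroup (K ⧸ center K)),
          a ≠ 1 → b ≠ 1 → ∃ i : ℕ, t ^ i * a * (t ^ i)⁻¹ = b := by
  haveI : Fact (Nat.Prime 2) := ⟨Nat.prime_two⟩
  rcases hB with ⟨F, iF, jF, hc, h4, ⟨e⟩⟩ | ⟨F, iF, jF, q, hq, h4, hF, ⟨e⟩⟩ | ⟨F, iF, jF, m, hm, hF, ⟨e⟩⟩
  · exfalso
    haveI := hc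
    obtain ⟨P, hP, hPc⟩ := Invol.CentRank.sylow_sl (F := F)
    obtain ⟨ψ, hψ⟩ := Invol.CentRank.exists_iso_sylow e T0 P
    obtain ⟨t, ht, htt⟩ := hne
    have hall : {x | x ∈ (P : Subgroup (Matrix.SpecialLinearGroup (Fin 2) F)) ∧ x * x = 1} =
        (P : Set (Matrix.SpecialLinearGroup (Fin 2) F)) := by
      refine Set.eq_of_subset_of_ncard_le (fun x hx => hx.1) ?_ (Set.toFinite _)
      rw [hPc]
      exact hP.le
    have h1 : ψ t ∈ {x | x ∈ (P : Subgroup (Matrix.SpecialLinearGroup (Fin 2) F)) ∧ x * x = 1} := by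
      rw [hall]
      show ψ t ∈ (P : Subgroup _)
      rw [← hψ]
      exact ⟨t, ht, rfl⟩
    exact htt (ψ.injective (by rw [map_mul, map_one]; exact h1.2))
  · exfalso
    have hm := S2089.result (F := F) 3 q hF le_rfl (fun h => by omega) (by
      simp only [Set.mem_insert_iff, Set.mem_singleton_iff, Prod.mk.injEq]
      rintro (⟨h, -⟩ | ⟨h, -⟩ | ⟨h, -⟩) <;> omega)
    let π : K →* Cfsg.PSU 3 F q := e.toMonoidHom.comp (QuotientGroup.mk' (center K))
    have hπker : π.ker = center K := by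
      ext x
      simp [π, MonoidHom.mem_ker]
    have h1 := Block.CpQuot.card_ker_dvd hm π (e.surjective.comp (QuotientGroup.mk'_surjective _))
      hπker.le hK.1
    rw [hπker, Nat.card_congr Multiplicative.toAdd, Nat.card_zmod] at h1
    exact absurd ((hz.trans h1).trans (Nat.gcd_dvd_left 3 (q + 1))) (by decide)
  · have hS : Suz.SzField F m := ⟨hm, hF⟩
    have hm1 : m = 1 := by
      by_contra h2
      have h1 := (Invol.ThreeFree.card_center_le_of_multiplier hK e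
        (Suz.Mult.trivial_lie hS (show 2 ≤ m by omega))).1
      have h1' : Nat.card (center K) ≤ 1 := h1.trans (by simp)
      have := Nat.le_of_dvd Nat.card_pos hz
      omega
    have h8 : Fintype.card F = 8 := by rw [hF, hm1]; norm_num
    have hf := OTLine.SzFacts.congr ((Suz.szEquiv hS).trans e.symm) (OTLine.szFacts_model hS)
    intro T
    refine ⟨?_, (hf.card T).trans h8, hf.tor T⟩
    have hc : Nat.card (K ⧸ center K) = 29120 := by
      rw [Nat.card_congr e.toEquiv, Recog.SuzMax.card_lie ⟨hm, hF⟩, Recog.SuzMax.szOrd, hm1]; norm_num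
    obtain ⟨k, hk⟩ := IsPGroup.iff_card.1 T.isPGroup'
    have h1 : 2 ^ 6 ∣ Nat.card ↥(T : Subgroup (K ⧸ center K)) :=
      T.pow_dvd_card_of_pow_dvd_card (hc ▸ (by norm_num))
    have h2 : 2 ^ k ∣ 29120 := hc ▸ hk ▸ card_subgroup_dvd_card _
    rw [hk] at h1 ⊢
    have h3 := (Nat.pow_dvd_pow_iff_le_right (le_refl 2)).1 h1
    have h4 : k < 7 := by
      by_contra h4
      exact absurd ((pow_dvd_pow 2 (show 7 ≤ k by omega)).trans h2) (by norm_num)
    rw [show k = 6 by omega]; norm_num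

variable {G : Type u} [Group G] [Finite G] {A : Subgroup G} {T : Sylow 2 G}

/-- The centre of a moved component lies in `A`. -/
theorem center_le (d : Data A T) {K : Subgroup G} (hK : Mov d K) : K ⊓ centralizer (K : Set G) ≤ A := by
  classical
  haveI : Fact (Nat.Prime 2) := ⟨Nat.prime_two⟩
  intro g hg
  set c : ↥K := ⟨g, hg.1⟩ with hcdef
  have hcc : c ∈ center ↥K := (QuotientGroup.eq_one_iff _).1 ((mk_eq_one hK.1).2 hg.2)
  obtain ⟨P, hP, hcl, hel, -, hSE, hinv, hcent, -⟩ :=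
    exists_data d.localHyp hK.1 d.inv_le_sylow hK.2
  obtain ⟨PK, hPK⟩ := exists_sylow_component (T := T) hK.1
  have hPKmem : ∀ k : ↥K, k ∈ (PK : Subgroup ↥K) ↔ (k : G) ∈ (T : Subgroup G) := fun k => by
    rw [hPK, mem_subgroupOf]
  set π := QuotientGroup.mk' (center ↥K) with hπ
  have hπs : Function.Surjective π := QuotientGroup.mk'_surjective _
  have hcPK : ∀ x ∈ center ↥K, x ∈ (PK : Subgroup ↥K) := fun x hx => (hPKmem x).2
    (center_le_sylow d.localHyp d.inv_le_sylow hK.1 ⟨x.2, (mk_eq_one hK.1).1 ((QuotientGroup.eq_one_iff x).2 hx)⟩)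
  set W := A.subgroupOf K with hW
  set kb := kbar (inv d) K with hkb
  have hWkb : ∀ w ∈ W, π w ∈ kb := fun w hw => by
    refine hinv _ ((hP w).2 (d.closed.1 (mem_subgroupOf.1 hw))) ?_
    rw [hπ, ← map_mul]
    exact (mk_eq_one hK.1).2 (d.flat hK w (mem_subgroupOf.1 hw) w.2)
  set Z1 := W ⊔ center ↥K with hZ1
  have hWcomm : ∀ a ∈ W, ∀ b ∈ W, a * b = b * a := fun a ha b hb =>
    Subtype.ext (d.comm _ (mem_subgroupOf.1 ha) _ (mem_subgroupOf.1 hb))
  have hZ1iff : ∀ k : ↥K, k ∈ Z1 ↔ π k ∈ kb := by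
    intro k
    constructor
    · intro hk
      obtain ⟨w, hw, z, hz, rfl⟩ := mem_sup_of_normal_right.1 hk
      rw [map_mul, show π z = 1 from (QuotientGroup.eq_one_iff z).2 hz, mul_one]
      exact hWkb w hw
    · rintro ⟨w, hw, e⟩
      rw [hπ, QuotientGroup.mk'_apply, QuotientGroup.mk'_apply, QuotientGroup.eq] at e
      rw [show k = w * (w⁻¹ * k) by group]
      exact mul_mem_sup (mem_subgroupOf.2 (mem_subgroupOf.1 hw).1.1) e
  have hZ1PK : Z1 ≤ (PK : Subgroup ↥K) :=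
    sup_le (fun w hw => (hPKmem w).2 (d.closed.1 (mem_subgroupOf.1 hw))) hcPK
  have hperf : commutator ↥K = ⊤ := hK.1.2.1.commutator_eq_top
  by_cases hab : (P : Subgroup (↥K ⧸ center ↥K)) = kb
  · -- abelian Sylow subgroups: no 2-part of the centre
    have h1 : ∀ a ∈ (PK : Subgroup ↥K), ∀ b ∈ (PK : Subgroup ↥K), a * b = b * a := by
      intro a ha b hb
      have hmem : ∀ x ∈ (PK : Subgroup ↥K), ∃ w ∈ W, ∃ z ∈ center ↥K, w * z = x := fun x hx =>
        mem_sup_of_normal_right.1 ((hZ1iff x).2 (hab ▸ (hP x).2 ((hPKmem x).1 hx)))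
      obtain ⟨w, hw, z, hz, rfl⟩ := hmem a ha
      obtain ⟨w', hw', z', hz', rfl⟩ := hmem b hb
      have c1 := mem_center_iff.1 hz (w' * z')
      have c2 := mem_center_iff.1 hz' w
      calc w * z * (w' * z') = w * (z * (w' * z')) := mul_assoc _ _ _
        _ = (w * w') * (z' * z) := by rw [← c1]; group
        _ = (w' * w) * (z' * z) := by rw [hWcomm w hw w' hw']
        _ = w' * (w * z') * z := by group
        _ = _ := by rw [c2]; group
    have : c = 1 := eq_one_of_abelian_sylow hperf PK h1 (hcPK c hcc) hcc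
    rw [show g = ((c : ↥K) : G) from rfl, this]
    exact one_mem _
  haveI := hK.1.2.2
  obtain ⟨H, hH⟩ := hSE.resolve_left hab
  have hB := (bender_of_se (Fus.Gold.not_comm_quotient hK.1) hH).1
  have hne2 : ∃ t ∈ (P : Subgroup (↥K ⧸ center ↥K)), t * t ≠ 1 := by
    by_contra hcon
    push Not at hcon
    exact hab (le_antisymm (fun t ht => hinv t ht (hcon t ht)) hcl.1)
  by_contra hgA
  have hcW : c ∉ W := fun h => hgA (mem_subgroupOf.1 h)
  have hz2 : 2 ∣ Nat.card (center ↥K) := by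
    obtain ⟨k, hk⟩ := IsPGroup.iff_card.1 (PK.isPGroup'.to_le (show center ↥K ≤ _ from hcPK))
    rw [hk]
    refine dvd_pow_self 2 fun hk0 => hcW ?_
    rw [hk0, pow_zero] at hk
    rw [show c = 1 from mem_bot.1 (eq_bot_of_card_eq _ hk ▸ hcc)]
    exact one_mem _
  obtain ⟨h64, h8, t, htodd, htP, httr⟩ := sz_eight hK.1.2 hB hz2 P hne2 P
  -- the involutions of `P`
  have hkbset : (kb : Set (↥K ⧸ center ↥K)) = OTLine.omegaOne (P : Subgroup (↥K ⧸ center ↥K)) := by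
    ext x
    exact ⟨fun hx => ⟨hcl.1 hx, by rw [← pow_two]; exact hel.2 x hx⟩, fun hx => hinv x hx.1 hx.2⟩
  have hkb8 : Nat.card kb = 8 := (Nat.card_coe_set_eq _).trans (hkbset ▸ h8)
  have htkb : ∀ x ∈ kb, t * x * t⁻¹ ∈ kb := fun x hx => hcl.2 x hx t (htP x (hcl.1 hx))
  have hfree : ∀ x ∈ kb, t * x * t⁻¹ = x → x = 1 := by
    intro x hx hfx
    by_contra hx1
    have hpow : ∀ i : ℕ, t ^ i * x * (t ^ i)⁻¹ = x := by
      intro i
      induction i with
      | zero => simp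
      | succ i ih =>
        calc t ^ (i + 1) * x * (t ^ (i + 1))⁻¹ = t * (t ^ i * x * (t ^ i)⁻¹) * t⁻¹ := by rw [pow_succ']; group
          _ = x := by rw [ih, hfx]
    have hsub : (kb : Set (↥K ⧸ center ↥K)) ⊆ {1, x} := fun y hy => by
      by_cases hy1 : y = 1
      · exact Or.inl hy1
      · obtain ⟨i, hi⟩ := httr x (hkbset ▸ hx) y (hkbset ▸ hy) hx1 hy1
        exact Or.inr (hi.symm.trans (hpow i))
    have := Set.ncard_le_ncard hsub (Set.toFinite _)
    rw [← Nat.card_coe_set_eq, show Nat.card (kb : Set (↥K ⧸ center ↥K)) = 8 from hkb8,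
      Set.ncard_pair (Ne.symm hx1)] at this
    omega
  -- no fixed points in `P`
  have hfreeP : ∀ x ∈ (P : Subgroup (↥K ⧸ center ↥K)), t * x * t⁻¹ = x → x = 1 := by
    have key : ∀ (i : ℕ) (x : ↥K ⧸ center ↥K), x ∈ (P : Subgroup (↥K ⧸ center ↥K)) → x ^ 2 ^ i = 1 →
        t * x * t⁻¹ = x → x = 1 := by
      intro i
      induction i with
      | zero => intro x _ hx _; simpa using hx
      | succ i ih =>
        intro x hx hxi hfx
        refine hfree x (hinv x hx (ih _ (mul_mem hx hx) (by rw [← pow_two, ← pow_mul, ← pow_succ']; exact hxi) ?_)) hfx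
        conv_rhs => rw [← hfx]
        group
    intro x hx
    obtain ⟨i, hi⟩ := P.isPGroup' ⟨x, hx⟩
    exact key i x hx (congrArg Subtype.val hi)
  -- a lift of `t`
  obtain ⟨t0, rfl⟩ := hπs t
  obtain ⟨k, hkodd, hkt⟩ := ClassTwo.exists_odd_lift π t0 htodd
  rw [← hkt] at htkb hfree hfreeP htP
  have hkPK : ∀ x ∈ (PK : Subgroup ↥K), k * x * k⁻¹ ∈ (PK : Subgroup ↥K) := fun x hx => by
    have h := htP (π x) ((hP x).2 ((hPKmem x).1 hx))
    rw [← map_inv, ← map_mul, ← map_mul] at h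
    exact (hPKmem _).2 ((hP _).1 h)
  -- a subgroup of index two over `W`
  have hWZ : W ≤ Z1 := le_sup_left
  obtain ⟨nW, hnW⟩ := IsPGroup.iff_card.1 (PK.isPGroup'.to_le (hWZ.trans hZ1PK))
  obtain ⟨n1, hn1⟩ := IsPGroup.iff_card.1 (PK.isPGroup'.to_le hZ1PK)
  have hlt : nW < n1 := by
    have h1 : Nat.card W ≤ Nat.card Z1 := card_le_of_le hWZ
    rw [hnW, hn1, Nat.pow_le_pow_iff_right (le_refl 2)] at h1
    refine lt_of_le_of_ne h1 fun e => hcW ?_
    have hWe : W = Z1 := eq_of_le_of_card_ge hWZ (by rw [hnW, hn1, e])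
    rw [hWe]
    exact mem_sup_right hcc
  obtain ⟨D0, hD0c, hD0W⟩ := Sylow.exists_subgroup_card_pow_prime_le (G := ↥Z1) 2 (n := nW) (m := n1 - 1)
    (by rw [hn1]; exact pow_dvd_pow 2 (Nat.sub_le _ _)) (W.subgroupOf Z1)
    (by rw [Nat.card_congr (subgroupOfEquivOfLe hWZ).toEquiv, hnW]) (by omega)
  set D := D0.map Z1.subtype with hDdef
  have hDZ : D ≤ Z1 := map_subtype_le D0
  have hWD : W ≤ D := fun w hw => ⟨⟨w, hWZ hw⟩, hD0W (mem_subgroupOf.2 hw), rfl⟩
  have hDcard : 2 * Nat.card D = Nat.card Z1 := by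
    rw [hDdef, card_map_of_injective Z1.subtype_injective, hD0c, hn1, ← pow_succ',
      show n1 - 1 + 1 = n1 by omega]
  -- normalised by `PK` and by `k`
  have hTA : (T : Subgroup G) ≤ normalizer (A : Set G) := Invol.sylow_le_normalizer_stronglyClosed d.closed
  have hnormW : ∀ (p : ↥K), (∀ w ∈ W, p * w * p⁻¹ * w⁻¹ ∈ W) → ∀ x ∈ D, p * x * p⁻¹ ∈ D := by
    intro p hp x hx
    obtain ⟨w, hw, z, hz, rfl⟩ := mem_sup_of_normal_right.1 (hDZ hx)
    have hzc := mem_center_iff.1 hz p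
    rw [show p * (w * z) * p⁻¹ = p * w * p⁻¹ * w⁻¹ * (w * (p * z * p⁻¹)) by group,
      show p * z * p⁻¹ = z by rw [hzc]; group]
    exact mul_mem (hWD (hp w hw)) hx
  have hnP : ∀ p ∈ (PK : Subgroup ↥K), ∀ x ∈ D, p * x * p⁻¹ ∈ D := fun p hp =>
    hnormW p fun w hw => mem_subgroupOf.2 (by
      show (p : G) * w * (p : G)⁻¹ * (w : G)⁻¹ ∈ A
      exact mul_mem (mem_conj_normalizer (hTA ((hPKmem p).1 hp)) (mem_subgroupOf.1 hw)) (inv_mem (mem_subgroupOf.1 hw)))
  have hnk : ∀ x ∈ D, k * x * k⁻¹ ∈ D := hnormW k fun w hw => mem_subgroupOf.2 (by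
    show (k : G) * w * (k : G)⁻¹ * (w : G)⁻¹ ∈ A
    exact mul_mem (d.closed.2 w (mem_subgroupOf.1 hw) k
      ((hPKmem _).1 (hkPK w ((hPKmem w).2 (d.closed.1 (mem_subgroupOf.1 hw)))))) (inv_mem (mem_subgroupOf.1 hw)))
  have hDPK : D ≤ (PK : Subgroup ↥K) := hDZ.trans hZ1PK
  set N := normalizer ((PK : Subgroup ↥K) : Set ↥K) ⊓ normalizer (D : Set ↥K) with hN
  have hPN : (PK : Subgroup ↥K) ≤ N := le_inf Subgroup.le_normalizer fun p hp => mem_normalizer_fintype (hnP p hp)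
  have hkN : k ∈ N := ⟨mem_normalizer_fintype hkPK, mem_normalizer_fintype hnk⟩
  haveI hDn : (D.subgroupOf N).Normal := normal_subgroupOf_of_le_normalizer inf_le_right
  haveI hPn : ((PK : Subgroup ↥K).subgroupOf N).Normal := normal_subgroupOf_of_le_normalizer inf_le_left
  set q := QuotientGroup.mk' (D.subgroupOf N) with hq
  set U := ((PK : Subgroup ↥K).subgroupOf N).map q with hU
  haveI : U.Normal := Normal.map hPn q (QuotientGroup.mk'_surjective _)
  have hqmem : ∀ {x : ↥K} (hx : x ∈ N), q ⟨x, hx⟩ = 1 ↔ x ∈ D := fun hx =>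
    (QuotientGroup.eq_one_iff _).trans mem_subgroupOf
  have hU16 : Nat.card U = 16 := by
    have h1 : Nat.card U = D.relIndex (PK : Subgroup ↥K) := by
      have h := relIndex_ker ((PK : Subgroup ↥K).subgroupOf N) q
      rw [QuotientGroup.ker_mk', relIndex_subgroupOf hPN] at h
      exact h.symm
    have h2 : Z1.relIndex (PK : Subgroup ↥K) = 8 := by
      have h := relIndex_comap kb π (PK : Subgroup ↥K)
      rw [show kb.comap π = Z1 from SetLike.ext fun x => (hZ1iff x).symm,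
        show (PK : Subgroup ↥K).map π = (P : Subgroup (↥K ⧸ center ↥K)) from ?_] at h
      · rw [h]
        have h3 : kb.relIndex (P : Subgroup (↥K ⧸ center ↥K)) * Nat.card kb =
            Nat.card ↥(P : Subgroup (↥K ⧸ center ↥K)) := by
          rw [Subgroup.relIndex, mul_comm, ← Nat.card_congr (subgroupOfEquivOfLe hcl.1).toEquiv]
          exact card_mul_index _
        rw [h64, hkb8] at h3
        omega
      · refine le_antisymm (by rintro _ ⟨x, hx, rfl⟩; exact (hP x).2 ((hPKmem x).1 hx)) fun y hy => ?_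
        obtain ⟨x, rfl⟩ := hπs y
        exact ⟨x, (hPKmem x).2 ((hP x).1 hy), rfl⟩
    have h4 : D.relIndex Z1 = 2 := by
      have h5 : D.relIndex Z1 * Nat.card D = Nat.card Z1 := by
        rw [Subgroup.relIndex, mul_comm, ← Nat.card_congr (subgroupOfEquivOfLe hDZ).toEquiv]
        exact card_mul_index _
      rw [← hDcard] at h5
      exact Nat.eq_of_mul_eq_mul_right Nat.card_pos h5
    rw [h1, ← relIndex_mul_relIndex D Z1 _ hDZ hZ1PK, h4, h2]
  obtain ⟨z, hzZ, hzD⟩ : ∃ z ∈ Z1, z ∉ D := SetLike.not_le_iff_exists.1 fun hle => by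
    have := card_le_of_le hle
    have hpos : 0 < Nat.card D := Nat.card_pos
    omega
  have htwo : ∀ x ∈ Z1, x ∈ D ∨ z⁻¹ * x ∈ D := by
    intro x hx
    have hidx : (D.subgroupOf Z1).index = 2 := by
      have h5 := (D.subgroupOf Z1).card_mul_index
      rw [Nat.card_congr (subgroupOfEquivOfLe hDZ).toEquiv, ← hDcard, mul_comm 2] at h5
      exact Nat.eq_of_mul_eq_mul_left Nat.card_pos h5
    have h := mul_mem_iff_of_index_two hidx (a := (⟨z, hzZ⟩ : ↥Z1)⁻¹) (b := ⟨x, hx⟩)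
    by_cases hxD : x ∈ D
    · exact Or.inl hxD
    · refine Or.inr (mem_subgroupOf.1 (h.2 (iff_of_false (fun h' => hzD ?_) (fun h' => hxD (mem_subgroupOf.1 h')))))
      simpa using mem_subgroupOf.1 h'
  have hzPK := hZ1PK hzZ
  -- elements of `Z1` are central modulo `D`
  have hcentral : ∀ x ∈ Z1, ∀ p ∈ (PK : Subgroup ↥K), p * x * p⁻¹ * x⁻¹ ∈ D := by
    intro x hx p hp
    obtain ⟨w, hw, z', hz', rfl⟩ := mem_sup_of_normal_right.1 hx
    have hzc := mem_center_iff.1 hz' p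
    rw [show p * (w * z') * p⁻¹ * (w * z')⁻¹ = p * w * p⁻¹ * (p * z' * p⁻¹ * z'⁻¹) * w⁻¹ by group,
      show p * z' * p⁻¹ * z'⁻¹ = 1 by rw [hzc]; group, mul_one]
    exact mul_mem (hnP p hp w (hWD hw)) (inv_mem (hWD hw))
  let zU : ↥U := ⟨q ⟨z, hPN hzPK⟩, mem_map_of_mem q (mem_subgroupOf.2 hzPK)⟩
  have hzU1 : zU ≠ 1 := fun e => hzD ((hqmem _).1 (congrArg Subtype.val e))
  have hzUc : zU ∈ center ↥U := by
    refine mem_center_iff.2 fun y => Subtype.ext ?_
    obtain ⟨y, ⟨x, hx⟩, hxP, rfl⟩ := y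
    show q ⟨x, hx⟩ * q ⟨z, _⟩ = q ⟨z, _⟩ * q ⟨x, hx⟩
    rw [← map_mul, ← map_mul, ← mul_inv_eq_one, ← map_inv, ← map_mul]
    refine (QuotientGroup.eq_one_iff _).2 (mem_subgroupOf.2 ?_)
    show x * z * (z * x)⁻¹ ∈ D
    rw [mul_inv_rev, ← mul_assoc]
    exact hcentral z hzZ x (mem_subgroupOf.1 hxP)
  let φ : MulAut ↥U := MulAut.conjNormal (q ⟨k, hkN⟩)
  have hφodd : Odd (orderOf φ) := by
    refine hkodd.of_dvd_nat ((orderOf_map_dvd _ _).trans ((orderOf_map_dvd q _).trans ?_))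
    rw [Subgroup.orderOf_mk]
  have hφ : ∀ {x : ↥K} (hx : x ∈ N) (hxU : q ⟨x, hx⟩ ∈ U),
      φ ⟨_, hxU⟩ = ⟨_, hxU⟩ ↔ k * x * k⁻¹ * x⁻¹ ∈ D := by
    intro x hx hxU
    rw [Subtype.ext_iff, MulAut.conjNormal_apply]
    show q ⟨k, hkN⟩ * q ⟨x, hx⟩ * (q ⟨k, hkN⟩)⁻¹ = q ⟨x, hx⟩ ↔ _
    rw [← map_inv, ← map_mul, ← map_mul, ← mul_inv_eq_one, ← map_inv, ← map_mul, hqmem]
    rfl
  have hφz : φ zU = zU := by
    refine (hφ (hPN hzPK) _).2 ?_
    obtain ⟨w, hw, z', hz', rfl⟩ := mem_sup_of_normal_right.1 hzZ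
    have hzc := mem_center_iff.1 hz' k
    rw [show k * (w * z') * k⁻¹ * (w * z')⁻¹ = k * w * k⁻¹ * (k * z' * k⁻¹ * z'⁻¹) * w⁻¹ by group,
      show k * z' * k⁻¹ * z'⁻¹ = 1 by rw [hzc]; group, mul_one]
    exact mul_mem (hnk w (hWD hw)) (inv_mem (hWD hw))
  have hfix : ∀ y : ↥U, φ y = y → y = 1 ∨ y = zU := by
    rintro ⟨_, ⟨x, hx⟩, hxP, rfl⟩ hy
    have hxP' : x ∈ (PK : Subgroup ↥K) := mem_subgroupOf.1 hxP
    have hd : π (k * x * k⁻¹ * x⁻¹) ∈ kb := (hZ1iff _).1 (hDZ ((hφ hx _).1 hy))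
    -- a fixed point in the coset
    let ψ : ↥kb → ↥kb := fun v => ⟨π k * v * (π k)⁻¹ * (v : ↥K ⧸ center ↥K)⁻¹,
      mul_mem (htkb v v.2) (inv_mem v.2)⟩
    have hψ : Function.Surjective ψ := Finite.surjective_of_injective fun v w hvw => by
      have e : π k * v * (π k)⁻¹ * (v : ↥K ⧸ center ↥K)⁻¹ = π k * w * (π k)⁻¹ * (w : ↥K ⧸ center ↥K)⁻¹ :=
        congrArg Subtype.val hvw
      have hc := elemAb_comm hel _ (inv_mem w.2) _ v.2
      refine Subtype.ext (inv_mul_eq_one.1 (hfree _ (mul_mem (inv_mem v.2) w.2) ?_))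
      have e' : (π k * v * (π k)⁻¹)⁻¹ * (π k * w * (π k)⁻¹) = (v : ↥K ⧸ center ↥K)⁻¹ * w := by
        have hA : π k * (w : ↥K ⧸ center ↥K) * (π k)⁻¹ = π k * v * (π k)⁻¹ * (v : ↥K ⧸ center ↥K)⁻¹ * w := by
          rw [e]; group
        rw [hA]; group
      calc π k * ((v : ↥K ⧸ center ↥K)⁻¹ * w) * (π k)⁻¹
          = (π k * v * (π k)⁻¹)⁻¹ * (π k * w * (π k)⁻¹) := by group
        _ = _ := e'
    obtain ⟨v, hv⟩ := hψ ⟨(π (k * x * k⁻¹ * x⁻¹))⁻¹, inv_mem hd⟩
    have hv' : π k * v * (π k)⁻¹ * (v : ↥K ⧸ center ↥K)⁻¹ = (π (k * x * k⁻¹ * x⁻¹))⁻¹ := congrArg Subtype.val hv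
    have hxQ : π x ∈ (P : Subgroup (↥K ⧸ center ↥K)) := (hP x).2 ((hPKmem x).1 hxP')
    have hcd : π x * π (k * x * k⁻¹ * x⁻¹) = π (k * x * k⁻¹ * x⁻¹) * π x :=
      (mem_centralizer_iff.1 (hcent hxQ) _ hd).symm
    have hfixed := hfreeP (π x * v) (mul_mem hxQ (hcl.1 v.2)) (by
      have e1 : π k * π x * (π k)⁻¹ = π x * π (k * x * k⁻¹ * x⁻¹) := by
        rw [hcd, ← map_inv, ← map_mul, ← map_mul, ← map_mul]; congr 1; group
      have e2 : π k * v * (π k)⁻¹ = (π (k * x * k⁻¹ * x⁻¹))⁻¹ * v := by rw [← hv']; group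
      calc π k * (π x * v) * (π k)⁻¹ = π k * π x * (π k)⁻¹ * (π k * v * (π k)⁻¹) := by group
        _ = _ := by rw [e1, e2]; group)
    have hxZ : x ∈ Z1 := (hZ1iff x).2 (by rw [mul_eq_one_iff_eq_inv.1 hfixed]; exact inv_mem v.2)
    rcases htwo x hxZ with h | h
    · exact Or.inl (Subtype.ext ((hqmem hx).2 h))
    · refine Or.inr (Subtype.ext ?_)
      show q ⟨x, hx⟩ = q ⟨z, _⟩
      rw [← inv_mul_eq_one, ← map_inv, ← map_mul]
      refine (QuotientGroup.eq_one_iff _).2 (mem_subgroupOf.2 ?_)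
      show x⁻¹ * z ∈ D
      simpa [mul_inv_rev] using inv_mem h
  have hcomm := comm_of_fixed_pair hU16 hzUc hzU1 φ hφodd hfix hφz
  have hCD : ∀ x ∈ commutator ↥(PK : Subgroup ↥K), (x : ↥K) ∈ D := by
    have hle : commutator ↥(PK : Subgroup ↥K) ≤ D.subgroupOf (PK : Subgroup ↥K) := by
      rw [_root_.commutator_def, commutator_le]
      intro a _ b _
      refine mem_subgroupOf.2 ((hqmem (hPN (⁅a, b⁆).2)).1 ?_)
      have h := congrArg Subtype.val (hcomm ⟨q ⟨a, hPN a.2⟩, mem_map_of_mem q (mem_subgroupOf.2 a.2)⟩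
        ⟨q ⟨b, hPN b.2⟩, mem_map_of_mem q (mem_subgroupOf.2 b.2)⟩)
      show q ⁅(⟨a, hPN a.2⟩ : ↥N), ⟨b, hPN b.2⟩⁆ = 1
      rw [map_commutatorElement]
      exact commutatorElement_eq_one_iff_mul_comm.2 h
    exact fun x hx => mem_subgroupOf.1 (hle hx)
  have hcD : ∀ x ∈ center ↥K, x ∈ D := fun x hx => hCD _ (mem_commutator_of_central hperf PK (hcPK x hx) hx)
  exact hzD (sup_le hWD hcD hzZ)

end Cfsg.Agent.Invol.AbelTwo.Closed
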