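import Cfsg.Agent.Lib.Fus.ClosedProduct.Main
import Cfsg.Agent.Lib.Fus.Goldschmidt.Main
import Cfsg.Agent.Lib.Grp.LocalFitting
import Cfsg.Agent.S1250

/-!
# A strongly closed abelian 2-subgroup with normal closure the whole group, `O = 1`

`A = (A ∩ O₂)(B ∩ M)` for the involutions `B` of `A` and the product `M` of the components they move.
-/

set_option autoImplicit false
set_option linter.unusedSectionVars false
set_option linter.style.haveILetI false

namespace Cfsg.Agent.Invol.AbelTwo.Closed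

open Subgroup Cfsg.Agent.Grp Fus.Gold
open scoped commutatorElement

universe u

variable {G : Type u} [Group G] [Finite G]

/-- An elementary strongly closed subgroup satisfies the local hypotheses. -/
theorem localHyp_of (hO : Cfsg.pPrimeCore 2 G = ⊥) {T : Sylow 2 G} {C : Subgroup G}
    (hC : Cfsg.IsStronglyClosed C (T : Subgroup G)) (hcomm : ∀ a ∈ C, ∀ b ∈ C, a * b = b * a)
    (hsq : ∀ a ∈ C, a * a = 1) : LocalHyp G C where
  core := hO
  elem := ⟨⟨⟨fun a b => Subtype.ext (hcomm a a.2 b b.2)⟩⟩, fun x hx => (pow_two x).trans (hsq x hx)⟩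
  closed := fun R hR hCR x hx g hg => by
    obtain ⟨k, hk⟩ := Fus.ClosedProduct.move T hR
    have hkC : ∀ a ∈ C, k * a * k⁻¹ ∈ C := fun a ha => hC.2 a ha k (hk a (hCR ha))
    refine (mem_normalizer_iff.1 (mem_normalizer_fintype hkC : k ∈ normalizer (C : Set G)) _).2 ?_
    have h1 := hC.2 x hx (k * g) (by
      rw [show k * g * x * (k * g)⁻¹ = k * (g * x * g⁻¹) * k⁻¹ by group]; exact hk _ hg)
    rwa [show k * g * x * (k * g)⁻¹ = k * (g * x * g⁻¹) * k⁻¹ by group] at h1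
  comp := fun _ hK => conclusion_all _ hK.2.2 (Fus.Gold.not_comm_quotient hK)

/-- If it moves no component it lies in `O₂`. -/
theorem le_pCore_of_unmoved {C : Subgroup G} (h : LocalHyp G C)
    (hc : ∀ K : Subgroup G, Cfsg.IsComponent K → C ≤ centralizer (K : Set G)) : C ≤ Cfsg.pCore 2 G := by
  haveI : Fact (Nat.Prime 2) := ⟨Nat.prime_two⟩
  have hl : Cfsg.layer G ≤ normalizer (C : Set G) :=
    (sSup_le fun K hK => le_centralizer_iff.1 (hc K hK)).trans (centralizer_le_normalizer _)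
  haveI : C.Normal := normalizer_eq_top_iff.1 (top_le_iff.1 ((local_cover h).symm.le.trans (sup_le hl le_rfl)))
  exact Grp.le_pCore inferInstance (elemAb_isPGroup h.elem)

/-- The hypotheses. -/
structure Data (A : Subgroup G) (T : Sylow 2 G) : Prop where
  core : Cfsg.pPrimeCore 2 G = ⊥
  comm : ∀ a ∈ A, ∀ b ∈ A, a * b = b * a
  closed : Cfsg.IsStronglyClosed A (T : Subgroup G)
  gen : normalClosure (A : Set G) = ⊤

/-- The involutions of `A`. -/
def inv {A : Subgroup G} {T : Sylow 2 G} (d : Data A T) : Subgroup G where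
  carrier := {x | x ∈ A ∧ x * x = 1}
  one_mem' := ⟨one_mem _, mul_one 1⟩
  mul_mem' := fun {x y} hx hy => ⟨mul_mem hx.1 hy.1, by
    rw [show x * y * (x * y) = x * (y * x) * y by group, d.comm y hy.1 x hx.1,
      show x * (x * y) * y = (x * x) * (y * y) by group, hx.2, hy.2, one_mul]⟩
  inv_mem' := fun {x} hx => ⟨inv_mem hx.1, by rw [← mul_inv_rev, hx.2, inv_one]⟩

/-- The components moved by the involutions of `A`. -/
def Mov {A : Subgroup G} {T : Sylow 2 G} (d : Data A T) (K : Subgroup G) : Prop :=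
  Cfsg.IsComponent K ∧ ¬ inv d ≤ centralizer (K : Set G)

namespace Data

variable {A : Subgroup G} {T : Sylow 2 G} (d : Data A T)
include d

theorem inv_le : inv d ≤ A := fun _ hx => hx.1

theorem inv_le_sylow : inv d ≤ (T : Subgroup G) := fun _ hx => d.closed.1 hx.1

theorem inv_closed : Cfsg.IsStronglyClosed (inv d) (T : Subgroup G) :=
  ⟨d.inv_le_sylow, fun x hx g hg => ⟨d.closed.2 x hx.1 g hg, by
    rw [show g * x * g⁻¹ * (g * x * g⁻¹) = g * (x * x) * g⁻¹ by group, hx.2]; group⟩⟩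

theorem localHyp : LocalHyp G (inv d) :=
  localHyp_of d.core d.inv_closed (fun a ha b hb => d.comm a ha.1 b hb.1) fun _ ha => ha.2

theorem inf_pCore_normal : (A ⊓ Cfsg.pCore 2 G).Normal :=
  ⟨fun x hx g => by
    haveI : Fact (Nat.Prime 2) := ⟨Nat.prime_two⟩
    have h := (Grp.pCore_isNormal : (Cfsg.pCore 2 G).Normal).conj_mem x hx.2 g
    exact ⟨d.closed.2 x hx.1 g (Grp.pCore_le_sylow T h), h⟩⟩

theorem inf_pCore_le_center : A ⊓ Cfsg.pCore 2 G ≤ center G := by
  haveI := d.inf_pCore_normal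
  have h : normalClosure (A : Set G) ≤ centralizer ((A ⊓ Cfsg.pCore 2 G : Subgroup G) : Set G) :=
    normalClosure_le_normal fun a ha => mem_centralizer_iff.2 fun z hz => d.comm z hz.1 a ha
  rw [d.gen] at h
  exact fun z hz => mem_center_iff.2 fun g => (mem_centralizer_iff.1 (h (mem_top g)) z hz).symm

theorem flat {K : Subgroup G} (hK : Mov d K) : Fus.ClosedProduct.Flat A K :=
  (Fus.ClosedProduct.flat_or_flat d.localHyp d.inv_le_sylow hK.1 hK.2 d.closed d.closed d.comm).elim id id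

/-- `A` acts on the moved components through its involutions there. -/
theorem exists_inner {s : G} (hs : s ∈ A) (F : Finset (Subgroup G)) (hF : ∀ K ∈ F, Mov d K) :
    ∃ e ∈ inv d ⊓ F.sup id, ∀ K ∈ F, e * s ∈ centralizer (K : Set G) :=
  Fus.ClosedProduct.exists_mul_centralizes_all (Ab := inv d) (fun a ha b hb => d.comm a ha.1 b hb.1) F
    (fun K hK => (hF K hK).1) fun K hK => Fus.ClosedProduct.exists_mul_centralizes_of_flat d.localHyp
      d.inv_le_sylow (hF K hK).1 (hF K hK).2 d.closed (fun r hr a ha => d.comm r hr a ha.1)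
      (d.flat (hF K hK)) hs

theorem centralizer_normal : (centralizer ((sSup {K | Mov d K} : Subgroup G) : Set G)).Normal := by
  haveI : (sSup {K | Mov d K}).Normal := Fus.ClosedProduct.sSup_normal _ fun K hK g =>
    ⟨IsComponent.conj hK.1 g, Fus.ClosedProduct.moved_conj d.localHyp d.inv_le_sylow hK.1 hK.2 g⟩
  infer_instance

/-- What centralises the moved components lies in `O₂`. -/
theorem centralizing_le {a : G} (ha : a ∈ A)
    (hc : a ∈ centralizer ((sSup {K | Mov d K} : Subgroup G) : Set G)) : a ∈ Cfsg.pCore 2 G := by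
  classical
  haveI : Fact (Nat.Prime 2) := ⟨Nat.prime_two⟩
  set Cm := centralizer ((sSup {K | Mov d K} : Subgroup G) : Set G) with hCm
  haveI : Cm.Normal := d.centralizer_normal
  set Z := A ⊓ Cfsg.pCore 2 G with hZdef
  haveI : Z.Normal := d.inf_pCore_normal
  -- the involutions centralising the moved components
  have hcl1 : Cfsg.IsStronglyClosed (inv d ⊓ Cm) (T : Subgroup G) :=
    ⟨inf_le_left.trans d.inv_le_sylow, fun x hx g hg => ⟨d.inv_closed.2 x hx.1 g hg,
      Normal.conj_mem inferInstance x hx.2 g⟩⟩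
  have hB : inv d ⊓ Cm ≤ Z := by
    refine le_inf (inf_le_left.trans d.inv_le) (le_pCore_of_unmoved
      (localHyp_of d.core hcl1 (fun x (hx : x ∈ inv d ⊓ Cm) y (hy : y ∈ inv d ⊓ Cm) => d.comm x hx.1.1 y hy.1.1)
        fun x (hx : x ∈ inv d ⊓ Cm) => hx.1.2) fun K hK => ?_)
    by_cases hm : Mov d K
    · exact inf_le_right.trans (centralizer_le (SetLike.coe_subset_coe.2 (le_sSup (s := {K | Mov d K}) hm)))
    · exact inf_le_left.trans (not_not.1 fun h => hm ⟨hK, h⟩)
  have hZp : IsPGroup 2 ↥Z := Grp.pCore_isPGroup.to_le inf_le_right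
  have hZT : Z ≤ (T : Subgroup G) := inf_le_left.trans d.closed.1
  set π := QuotientGroup.mk' Z with hπ
  have hπs : Function.Surjective π := QuotientGroup.mk'_surjective Z
  -- the odd core modulo `Z`
  have hOq : Cfsg.pPrimeCore 2 (G ⧸ Z) = ⊥ := by
    haveI : (Cfsg.pPrimeCore 2 (G ⧸ Z)).Normal := Grp.pPrimeCore_isNormal
    set E := (Cfsg.pPrimeCore 2 (G ⧸ Z)).comap π with hE
    have hZE : Z ≤ E := fun z hz => by
      rw [hE, mem_comap, show π z = 1 from (QuotientGroup.eq_one_iff z).2 hz]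
      exact one_mem _
    have hodd : Odd (Z.relIndex E) := by
      have h1 : Z.relIndex E = Nat.card ↥(Cfsg.pPrimeCore 2 (G ⧸ Z)) := by
        have h2 := relIndex_ker E π
        rw [QuotientGroup.ker_mk', hE, map_comap_eq_self_of_surjective hπs] at h2
        exact h2
      rw [h1]
      exact Nat.coprime_two_right.1 Grp.pPrimeCore_coprime
    have hEZ := Fus.ClosedProduct.le_two_of_odd_quotient d.core hZp hZE
      (fun z hz e _ => (mem_center_iff.1 (d.inf_pCore_le_center hz) e).symm) hodd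
    refine (eq_bot_iff_forall _).2 fun q hq => ?_
    obtain ⟨g, rfl⟩ := hπs q
    exact (QuotientGroup.eq_one_iff g).2 (hEZ hq)
  set Tq : Sylow 2 (G ⧸ Z) := T.mapSurjective hπs
  set A' := A ⊓ Cm with hA'
  have hA'cl : Cfsg.IsStronglyClosed A' (T : Subgroup G) :=
    ⟨inf_le_left.trans d.closed.1, fun x hx g hg => ⟨d.closed.2 x hx.1 g hg,
      Normal.conj_mem inferInstance x hx.2 g⟩⟩
  have hcq : ∀ x ∈ A'.map π, ∀ y ∈ A'.map π, x * y = y * x := by
    rintro _ ⟨x, hx, rfl⟩ _ ⟨y, hy, rfl⟩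
    rw [← map_mul, ← map_mul, d.comm x hx.1 y hy.1]
  let B1 : Subgroup (G ⧸ Z) :=
    { carrier := {x | x ∈ A'.map π ∧ x * x = 1}
      one_mem' := ⟨one_mem _, mul_one 1⟩
      mul_mem' := fun {x y} hx hy => ⟨mul_mem hx.1 hy.1, by
        rw [show x * y * (x * y) = x * (y * x) * y by group, hcq y hy.1 x hx.1,
          show x * (x * y) * y = (x * x) * (y * y) by group, hx.2, hy.2, one_mul]⟩
      inv_mem' := fun {x} hx => ⟨inv_mem hx.1, by rw [← mul_inv_rev, hx.2, inv_one]⟩ }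
  have hcl2 : Cfsg.IsStronglyClosed B1 (Tq : Subgroup (G ⧸ Z)) := by
    have h := S1250.result T A' hA'cl Z
    rw [← Sylow.coe_mapSurjective hπs] at h
    exact ⟨fun x hx => h.1 hx.1, fun x hx g hg => ⟨h.2 x hx.1 g hg, by
      rw [show g * x * g⁻¹ * (g * x * g⁻¹) = g * (x * x) * g⁻¹ by group, hx.2]; group⟩⟩
  have h1 : LocalHyp (G ⧸ Z) B1 := localHyp_of hOq hcl2 (fun x hx y hy => hcq x hx.1 y hy.1) fun x hx => hx.2
  have hT1 : B1 ≤ (Tq : Subgroup (G ⧸ Z)) := hcl2.1
  -- the preimage of `O₂`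
  have hpre : ∀ x ∈ A, π x ∈ Cfsg.pCore 2 (G ⧸ Z) → x ∈ Z := fun x hx hq => by
    haveI : (Cfsg.pCore 2 (G ⧸ Z)).Normal := Grp.pCore_isNormal
    have hp : IsPGroup 2 ↥((Cfsg.pCore 2 (G ⧸ Z)).comap π) :=
      (Grp.pCore_isPGroup (p := 2) (G := G ⧸ Z)).comap_of_ker_isPGroup π (by rwa [QuotientGroup.ker_mk'])
    exact ⟨hx, Grp.le_pCore inferInstance hp hq⟩
  have hun : ∀ K : Subgroup (G ⧸ Z), Cfsg.IsComponent K → B1 ≤ centralizer (K : Set (G ⧸ Z)) := by
    intro K hK
    by_contra hm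
    -- elements of `B1 ∩ K` central in `K` are trivial
    have htriv : ∀ x ∈ B1 ⊓ K, x ∈ centralizer (K : Set (G ⧸ Z)) → x = 1 := by
      intro x hx hxc
      obtain ⟨y, hy, rfl⟩ := hx.1.1
      refine (QuotientGroup.eq_one_iff y).2 (hpre y hy.1 ?_)
      have h2 := component_centralizer_inf_le_fitting hK ⟨hx.2, hxc⟩
      rwa [fitting_eq_pCore (p := 2) hOq] at h2
    have hconj : ∀ x ∈ B1 ⊓ K, x ≠ 1 → ∀ y ∈ B1 ⊓ K, y ≠ 1 → ∃ g : G ⧸ Z, g * x * g⁻¹ = y := by
      intro x hx hx1 y hy hy1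
      obtain ⟨n, hnK, hn, hc⟩ := exists_transitive h1 hK hT1 hm hx (fun e => hx1 (htriv x hx e)) hy
        fun e => hy1 (htriv y hy e)
      have hnx := (mem_normalizer_iff.1 hn x).1 ⟨hT1 hx.1, hx.2⟩
      have h2 : y⁻¹ * (n * x * n⁻¹) ∈ B1 ⊓ K :=
        mul_mem (inv_mem hy) ⟨hcl2.2 x hx.1 n hnx.1, hnx.2⟩
      exact ⟨n, (inv_mul_eq_one.1 (htriv _ h2 hc)).symm⟩
    obtain ⟨x, hx, hx1⟩ : ∃ x ∈ B1 ⊓ K, x ≠ 1 := by
      by_contra hne
      push Not at hne
      exact not_le_of_moved h1 hK hm fun x hx => hne x hx ▸ one_mem _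
    obtain ⟨y, hy, hy1, hyx⟩ : ∃ y ∈ B1 ⊓ K, y ≠ 1 ∧ y ≠ x := by
      by_contra hne
      push Not at hne
      have hle : kbar B1 K ≤ zpowers ((⟨x, hx.2⟩ : ↥K) : ↥K ⧸ center ↥K) := by
        rintro _ ⟨⟨y, hyK⟩, hy, rfl⟩
        by_cases hy1 : y = 1
        · subst hy1
          exact (show QuotientGroup.mk' (center ↥K) ⟨1, hyK⟩ = 1 from map_one _).symm ▸ one_mem _
        · obtain rfl := hne y (mem_subgroupOf.1 hy) hy1
          exact mem_zpowers _
      have h4 := four_le_kbar h1 hK hm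
      have h5 := card_le_of_le hle
      rw [Nat.card_zpowers] at h5
      have hsq : ((⟨x, hx.2⟩ : ↥K) : ↥K ⧸ center ↥K) ^ 2 = 1 := by
        rw [← QuotientGroup.mk_pow, show (⟨x, hx.2⟩ : ↥K) ^ 2 = 1 from Subtype.ext ((pow_two x).trans hx.1.2),
          QuotientGroup.mk_one]
      have h6 := Nat.le_of_dvd two_pos (orderOf_dvd_of_pow_eq_one hsq)
      omega
    obtain ⟨g1, hg1⟩ := hconj x hx hx1 y hy hy1
    have hyx1 : x * y ≠ 1 := fun e => hyx (by
      rw [← mul_eq_one_iff_inv_eq.1 e, h1.inv hx.1])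
    obtain ⟨g2, hg2⟩ := hconj x hx hx1 (x * y) (mul_mem hx hy) hyx1
    obtain ⟨a, ha, rfl⟩ := hx.1.1
    obtain ⟨b, hb, rfl⟩ := hy.1.1
    obtain ⟨g1, rfl⟩ := hπs g1
    obtain ⟨g2, rfl⟩ := hπs g2
    have sqz : a * a ∈ Z := (QuotientGroup.eq_one_iff (a * a)).1 ((map_mul π a a).trans hx.1.2)
    have conjsq : ∀ g c : G, π g * π a * (π g)⁻¹ = π c → ∃ z ∈ Z, c * c = a * a * (z * z) := by
      intro g c hgc
      rw [← map_inv, ← map_mul, ← map_mul, hπ, QuotientGroup.mk'_apply, QuotientGroup.mk'_apply,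
        QuotientGroup.eq] at hgc
      refine ⟨_, hgc, ?_⟩
      set z := (g * a * g⁻¹)⁻¹ * c with hz
      have hzc := mem_center_iff.1 (d.inf_pCore_le_center hgc) (g * a * g⁻¹)
      have hac := mem_center_iff.1 (d.inf_pCore_le_center sqz) g
      calc c * c = g * a * g⁻¹ * z * (g * a * g⁻¹ * z) := by rw [hz]; group
        _ = g * a * g⁻¹ * (z * (g * a * g⁻¹)) * z := by group
        _ = g * (a * a) * g⁻¹ * (z * z) := by rw [← hzc]; group
        _ = _ := by rw [hac]; group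
    obtain ⟨z1, hz1, e1⟩ := conjsq g1 b hg1
    obtain ⟨z2, hz2, e2⟩ := conjsq g2 (a * b) (hg2.trans (map_mul π a b).symm)
    have hbb : b * b = z2 * z2 := by
      have h3 : a * a * (b * b) = a * a * (z2 * z2) := by
        rw [← e2, show a * b * (a * b) = a * (b * a) * b by group, d.comm b hb.1 a ha.1]
        group
      exact mul_left_cancel h3
    have h4 : b * z2⁻¹ ∈ inv d ⊓ Cm := by
      have hz2C : z2⁻¹ ∈ Cm := inv_mem (mem_centralizer_iff.2 fun k _ =>
        mem_center_iff.1 (d.inf_pCore_le_center hz2) k)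
      refine ⟨⟨mul_mem hb.1 (inv_mem hz2.1), ?_⟩, mul_mem hb.2 hz2C⟩
      have hzc := mem_center_iff.1 (inv_mem (d.inf_pCore_le_center hz2)) b
      calc b * z2⁻¹ * (b * z2⁻¹) = b * (z2⁻¹ * b) * z2⁻¹ := by group
        _ = b * b * (z2⁻¹ * z2⁻¹) := by rw [← hzc]; group
        _ = _ := by rw [hbb]; group
    refine hy1 ((QuotientGroup.eq_one_iff b).2 ?_)
    simpa [mul_assoc] using mul_mem (hB h4) hz2
  have hB1 : B1 = ⊥ := by
    refine (eq_bot_iff_forall _).2 fun x hx => ?_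
    obtain ⟨y, hy, rfl⟩ := hx.1
    exact (QuotientGroup.eq_one_iff y).2 (hpre y hy.1 (le_pCore_of_unmoved h1 hun hx))
  -- no involutions, so trivial
  have key : ∀ (i : ℕ) (x : G ⧸ Z), x ∈ A'.map π → x ^ 2 ^ i = 1 → x = 1 := by
    intro i
    induction i with
    | zero => intro x _ hx; simpa using hx
    | succ i ih =>
      intro x hx hxi
      have hx2 : x * x = 1 := ih _ (mul_mem hx hx) (by rw [← pow_two, ← pow_mul, ← pow_succ']; exact hxi)
      exact mem_bot.1 (hB1.le (show x ∈ B1 from ⟨hx, hx2⟩))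
  have hmem : π a ∈ A'.map π := mem_map_of_mem π ⟨ha, hc⟩
  obtain ⟨i, hi⟩ := Tq.isPGroup' ⟨π a, by rw [Sylow.coe_mapSurjective]; exact map_mono hA'cl.1 hmem⟩
  exact ((QuotientGroup.eq_one_iff a).1 (key i _ hmem (congrArg Subtype.val hi))).2

/-- The moved components as a finite set. -/
theorem exists_finset : ∃ F : Finset (Subgroup G), (∀ K, K ∈ F ↔ Mov d K) ∧ F.sup id = sSup {K | Mov d K} := by
  classical
  haveI : Fintype (Subgroup G) := Fintype.ofFinite _
  refine ⟨Finset.univ.filter fun K => Mov d K, fun K => by simp, ?_⟩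
  refine le_antisymm (Finset.sup_le fun K hK => ?_) (sSup_le fun K hK => ?_)
  · exact le_sSup (s := {K | Mov d K}) (Finset.mem_filter.1 hK).2
  · exact Finset.le_sup (f := id) (Finset.mem_filter.2 ⟨Finset.mem_univ _, hK⟩)

/-- `A = (A ∩ O₂)(B ∩ M)`. -/
theorem decompose {a : G} (ha : a ∈ A) :
    ∃ z ∈ A ⊓ Cfsg.pCore 2 G, ∃ e ∈ inv d ⊓ sSup {K | Mov d K}, a = z * e := by
  obtain ⟨F, hF, hsup⟩ := d.exists_finset
  obtain ⟨e, he, hc⟩ := d.exists_inner ha F fun K hK => (hF K).1 hK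
  rw [hsup] at he
  have hes : e * a ∈ centralizer ((sSup {K | Mov d K} : Subgroup G) : Set G) := by
    have hle : sSup {K | Mov d K} ≤ centralizer ({e * a} : Set G) := sSup_le fun K hK k hk =>
      mem_centralizer_singleton_iff.2 (mem_centralizer_iff.1 (hc K ((hF K).2 hK)) k hk)
    exact mem_centralizer_iff.2 fun k hk => mem_centralizer_singleton_iff.1 (hle hk)
  have hA : e * a ∈ A := mul_mem he.1.1 ha
  refine ⟨e * a, ⟨hA, d.centralizing_le hA hes⟩, e, he, ?_⟩
  rw [d.comm e he.1.1 a ha, mul_assoc, he.1.2, mul_one]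

theorem sup_eq_top : (A ⊓ Cfsg.pCore 2 G) ⊔ sSup {K | Mov d K} = ⊤ := by
  haveI := d.inf_pCore_normal
  haveI : (sSup {K | Mov d K}).Normal := Fus.ClosedProduct.sSup_normal _ fun K hK g =>
    ⟨IsComponent.conj hK.1 g, Fus.ClosedProduct.moved_conj d.localHyp d.inv_le_sylow hK.1 hK.2 g⟩
  refine top_le_iff.1 (d.gen.symm.le.trans ?_)
  refine normalClosure_le_normal fun a ha => ?_
  obtain ⟨z, hz, e, he, rfl⟩ := d.decompose ha
  exact mul_mem_sup hz he.2

end Data

end Cfsg.Agent.Invol.AbelTwo.Closed
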