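import Cfsg.Agent.Lib.Invol.AbelTwo.Closed.Center
import Cfsg.Agent.Lib.Invol.AbelTwo.SFourFree

/-!
# Goldschmidt's structure theorem, `O = 1` and `⟨A^G⟩ = G`

The factors are recognised from the hypothesis `JRRec` on the centraliser shape of Janko–Ree kind.
-/

set_option autoImplicit false
set_option linter.unusedSectionVars false
set_option linter.style.haveILetI false

namespace Cfsg.Agent.Invol.AbelTwo.Closed

open Subgroup Cfsg.Agent.Grp Fus.Gold
open scoped commutatorElement

universe u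

namespace Data

variable {G : Type u} [Group G] [Finite G] {A : Subgroup G} {T : Sylow 2 G} (d : Data A T)
include d

theorem moved_le_commutator : sSup {K | Mov d K} ≤ commutator G :=
  sSup_le fun K hK => (IsComponent.perfect hK.1).symm.le.trans (commutator_mono le_top le_top)

theorem commutator_eq : commutator G = sSup {K | Mov d K} := by
  haveI : (sSup {K | Mov d K}).Normal := Fus.ClosedProduct.sSup_normal _ fun K hK g =>
    ⟨IsComponent.conj hK.1 g, Fus.ClosedProduct.moved_conj d.localHyp d.inv_le_sylow hK.1 hK.2 g⟩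
  refine le_antisymm ?_ d.moved_le_commutator
  set M := sSup {K | Mov d K} with hM
  rw [_root_.commutator_def, commutator_le]
  intro a _ b _
  obtain ⟨z, hz, m, hm, rfl⟩ := mem_sup_of_normal_right.1 (d.sup_eq_top.symm.le (mem_top a))
  obtain ⟨z', hz', m', hm', rfl⟩ := mem_sup_of_normal_right.1 (d.sup_eq_top.symm.le (mem_top b))
  have c1 := mem_center_iff.1 (d.inf_pCore_le_center hz)
  have c2 := mem_center_iff.1 (d.inf_pCore_le_center hz')
  have : ⁅z * m, z' * m'⁆ = ⁅m, m'⁆ := by
    rw [commutatorElement_def, commutatorElement_def]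
    calc z * m * (z' * m') * (z * m)⁻¹ * (z' * m')⁻¹
        = z * (m * z') * m' * m⁻¹ * (z⁻¹ * m'⁻¹) * z'⁻¹ := by group
      _ = z * (z' * m) * m' * m⁻¹ * (m'⁻¹ * z⁻¹) * z'⁻¹ := by
          rw [c2 m, show z⁻¹ * m'⁻¹ = m'⁻¹ * z⁻¹ by rw [← mul_inv_rev, ← mul_inv_rev, c1]]
      _ = z * z' * (m * m' * m⁻¹ * m'⁻¹) * (z⁻¹ * z'⁻¹) := by group
      _ = (m * m' * m⁻¹ * m'⁻¹) * (z * z') * (z⁻¹ * z'⁻¹) := by
          rw [mem_center_iff.1 (mul_mem (d.inf_pCore_le_center hz) (d.inf_pCore_le_center hz')) _]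
      _ = (m * m' * m⁻¹ * m'⁻¹) * (z * (z' * z⁻¹) * z'⁻¹) := by group
      _ = _ := by rw [← c2 z⁻¹]; group
  rw [this]
  exact mul_mem (mul_mem (mul_mem hm hm') (inv_mem hm)) (inv_mem hm')

theorem pCore_le_center : Cfsg.pCore 2 G ≤ center G := by
  haveI : Fact (Nat.Prime 2) := ⟨Nat.prime_two⟩
  intro q hq
  have hle : (⊤ : Subgroup G) ≤ centralizer ({q} : Set G) := by
    rw [← d.sup_eq_top]
    refine sup_le (fun z hz => mem_centralizer_singleton_iff.2
      (mem_center_iff.1 (d.inf_pCore_le_center hz) q).symm) (sSup_le fun K hK k hk => ?_)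
    exact mem_centralizer_singleton_iff.2
      ((mem_centralizer_iff.1 (layer_le_centralizer_pCore (IsComponent.le_layer hK.1 hk)) q hq).symm)
  exact mem_center_iff.2 fun g => mem_centralizer_singleton_iff.1 (hle (mem_top g))

theorem pCore_sup_commutator : Cfsg.pCore 2 G ⊔ commutator G = ⊤ :=
  top_le_iff.1 (d.sup_eq_top.symm.le.trans (sup_le_sup inf_le_right d.moved_le_commutator))

/-- Elements of `T` in the moved components with central square lie in `A`. -/
theorem mem_of_sq_central (F : Finset (Subgroup G)) (hF : ∀ K ∈ F, Mov d K) :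
    ∀ m ∈ F.sup id, m ∈ (T : Subgroup G) → (∀ K ∈ F, m * m ∈ centralizer (K : Set G)) → m ∈ A := by
  classical
  induction F using Finset.induction_on with
  | empty => intro m hm _ _; simp only [Finset.sup_empty, mem_bot] at hm; subst hm; exact one_mem _
  | insert K F hKF ih =>
    intro m hm hmT hsq
    haveI : Fact (Nat.Prime 2) := ⟨Nat.prime_two⟩
    have hK := hF K (Finset.mem_insert_self K F)
    have hsub : ∀ L ∈ F, Mov d L := fun L hL => hF L (Finset.mem_insert_of_mem hL)
    have hR : F.sup id ≤ centralizer (K : Set G) := Finset.sup_le fun L hL =>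
      IsComponent.commute (hsub L hL).1 hK.1 fun e => hKF (e ▸ hL)
    rw [Finset.sup_insert, id] at hm
    replace hm : m ∈ ((K ⊔ F.sup id : Subgroup G) : Set G) := hm
    have hnorm : K ≤ normalizer ((F.sup id : Subgroup G) : Set G) :=
      (le_centralizer_iff.1 hR).trans (centralizer_le_normalizer _)
    rw [coe_mul_of_left_le_normalizer_right _ _ hnorm] at hm
    obtain ⟨k, hk, r, hr, rfl⟩ := hm
    replace hk : k ∈ K := hk
    replace hr : r ∈ F.sup id := hr
    have hrc : ∀ y ∈ K, y * r = r * y := mem_centralizer_iff.1 (hR hr)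
    have hkk : k * k ∈ centralizer (K : Set G) := by
      rw [show k * k = (k * r) * (k * r) * (r * r)⁻¹ by
        rw [show k * r * (k * r) = k * (r * k) * r by group, ← hrc k hk]; group]
      exact mul_mem (hsq K (Finset.mem_insert_self K F)) (inv_mem (mul_mem (hR hr) (hR hr)))
    obtain ⟨P, hP, -, -, -, -, hinv, -, -⟩ := exists_data d.localHyp hK.1 d.inv_le_sylow hK.2
    set π := QuotientGroup.mk' (center ↥K) with hπ
    have hkq : π ⟨k, hk⟩ ∈ (P : Subgroup (↥K ⧸ center ↥K)) := by
      have hn : π ⟨k, hk⟩ ∈ normalizer ((P : Subgroup (↥K ⧸ center ↥K)) : Set (↥K ⧸ center ↥K)) := by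
        refine mem_normalizer_fintype fun y hy => ?_
        obtain ⟨⟨y, hyK⟩, rfl⟩ := QuotientGroup.mk'_surjective (center ↥K) y
        rw [← map_inv, ← map_mul, ← map_mul]
        refine (hP _).2 ?_
        show k * y * k⁻¹ ∈ (T : Subgroup G)
        have := mul_mem (mul_mem hmT ((hP ⟨y, hyK⟩).1 hy)) (inv_mem hmT)
        rwa [show k * r * y * (k * r)⁻¹ = k * (r * y) * r⁻¹ * k⁻¹ by group, ← hrc y hyK,
          show k * (y * r) * r⁻¹ * k⁻¹ = k * y * k⁻¹ by group] at this
      have h2 : π ⟨k, hk⟩ ^ 2 = 1 := by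
        rw [pow_two, ← map_mul]; exact (mk_eq_one hK.1).2 hkk
      have hp : IsPGroup 2 ↥(zpowers (π ⟨k, hk⟩)) := fun ⟨y, hy⟩ => ⟨1, Subtype.ext (by
        obtain ⟨i, rfl⟩ := mem_zpowers_iff.1 hy
        show (π ⟨k, hk⟩ ^ i) ^ (2 ^ 1 : ℕ) = 1
        rw [← zpow_natCast, ← zpow_mul, mul_comm, zpow_mul, zpow_natCast, pow_one, h2, one_zpow])⟩
      have hsup := P.is_maximal' (hp.to_sup_of_normal_right' P.isPGroup' (zpowers_le.2 hn)) le_sup_right
      rw [← hsup]
      exact mem_sup_left (mem_zpowers _)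
    have hkA : k ∈ A := by
      obtain ⟨⟨e, heK⟩, he, hek⟩ := hinv _ hkq (by rw [← map_mul]; exact (mk_eq_one hK.1).2 hkk)
      rw [QuotientGroup.mk'_apply, hπ, QuotientGroup.mk'_apply, QuotientGroup.eq] at hek
      have hc : e⁻¹ * k ∈ K ⊓ centralizer (K : Set G) :=
        ⟨K.mul_mem (K.inv_mem heK) hk, (mk_eq_one hK.1).1 ((QuotientGroup.eq_one_iff _).2 hek)⟩
      rw [show k = e * (e⁻¹ * k) by group]
      exact mul_mem (mem_subgroupOf.1 he).1.1 (center_le d hK hc)
    refine mul_mem hkA (ih hsub r hr ?_ fun L hL => ?_)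
    · rw [show r = k⁻¹ * (k * r) by group]
      exact mul_mem (inv_mem (d.closed.1 hkA)) hmT
    · rw [show r * r = (k * k)⁻¹ * ((k * r) * (k * r)) by
        rw [show k * r * (k * r) = k * (r * k) * r by group, ← hrc k hk]; group]
      refine mul_mem (inv_mem (?_ : k * k ∈ centralizer (L : Set G))) (hsq L (Finset.mem_insert_of_mem hL))
      exact (IsComponent.commute hK.1 (hsub L hL).1 fun e => hKF (e ▸ hL)) (mul_mem hk hk)

/-- `A = O₂ · Ω₁(T)`. -/
theorem eq_sup_omega : A = Cfsg.pCore 2 G ⊔ Cfsg.omegaOne 2 (T : Subgroup G) := by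
  classical
  haveI : Fact (Nat.Prime 2) := ⟨Nat.prime_two⟩
  refine le_antisymm (fun a ha => ?_) ?_
  · obtain ⟨z, hz, e, he, rfl⟩ := d.decompose ha
    exact mul_mem_sup hz.2 (subset_closure ⟨d.closed.1 he.1.1, by rw [pow_two]; exact he.1.2⟩)
  obtain ⟨F, hF, hsup⟩ := d.exists_finset
  haveI : (sSup {K | Mov d K}).Normal := Fus.ClosedProduct.sSup_normal _ fun K hK g =>
    ⟨IsComponent.conj hK.1 g, Fus.ClosedProduct.moved_conj d.localHyp d.inv_le_sylow hK.1 hK.2 g⟩
  have key : ∀ x ∈ (T : Subgroup G), x * x ∈ center G → x ∈ A := by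
    intro x hx hxx
    obtain ⟨z, hz, m, hm, rfl⟩ := mem_sup_of_normal_right.1 (d.sup_eq_top.symm.le (mem_top x))
    refine mul_mem hz.1 (d.mem_of_sq_central F (fun K hK => (hF K).1 hK) m (hsup ▸ hm) ?_ fun K hK => ?_)
    · rw [show m = z⁻¹ * (z * m) by group]
      exact mul_mem (inv_mem (d.closed.1 hz.1)) hx
    · have hzc := d.inf_pCore_le_center hz
      have hmm : m * m ∈ center G := by
        rw [show m * m = (z * z)⁻¹ * ((z * m) * (z * m)) by
          rw [show z * m * (z * m) = z * (m * z) * m by group, mem_center_iff.1 hzc m]; group]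
        exact mul_mem (inv_mem (mul_mem hzc hzc)) hxx
      exact center_le_centralizer _ hmm
  refine sup_le (fun q hq => key q (Grp.pCore_le_sylow T hq) (mul_mem (d.pCore_le_center hq) (d.pCore_le_center hq)))
    ((closure_le _).2 fun x hx => key x hx.1 ?_)
  rw [← pow_two, hx.2]
  exact one_mem _

/-- The simple factors are Goldschmidt groups. -/
theorem factor_gold (hub : JRRec.{u}) {K : Subgroup G} (hK : Mov d K) :
    Cfsg.IsGoldschmidtGroup (↥K ⧸ center ↥K) := by
  obtain ⟨P, -, -, hel, -, hSE, -, -, -⟩ := exists_data d.localHyp hK.1 d.inv_le_sylow hK.2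
  haveI := hK.1.2.2
  have hna := Fus.Gold.not_comm_quotient hK.1
  rcases hSE with e | ⟨H, hH⟩
  · haveI hPc : IsMulCommutative ↥(P : Subgroup (↥K ⧸ center ↥K)) := e ▸ hel.1
    rcases trichotomy hna (Fus.Gold.two_dvd_quotient d.localHyp hK.1) P hPc with
      ⟨F, i, j, n, hn, hF, ⟨e⟩⟩ | ⟨F, i, j, -, h5, h8, he⟩ | ⟨h8, hE, h⟩
    · exact gold_psl_two hn hF e
    · exact Or.inr (Or.inr (Or.inr (Or.inr (Or.inl ⟨F, i, j, _, rfl, h5, h8, he⟩))))
    · rcases hub _ hna P h8 hE h with h' | h'
      · exact Or.inl h'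
      · exact Or.inr (Or.inr (Or.inr (Or.inr (Or.inr h'))))
  · exact gold_bender (bender_of_se hna hH).1

/-- The derived group modulo its centre. -/
theorem exists_product (hub : JRRec.{u}) :
    ∃ (ι : Type) (_ : Fintype ι) (L : ι → Type u) (_ : ∀ i, Group (L i)),
      (∀ i, IsSimpleGroup (L i) ∧ ¬ IsMulCommutative (L i) ∧ Cfsg.IsGoldschmidtGroup (L i)) ∧
        Nonempty (↥(commutator G) ⧸ center ↥(commutator G) ≃* ((i : ι) → L i)) := by
  classical
  obtain ⟨F, hF, hsup⟩ := d.exists_finset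
  set e := F.equivFin.symm with he
  let K : Fin F.card → Subgroup G := fun i => ((e i : {x // x ∈ F}) : Subgroup G)
  have hK : ∀ i, Mov d (K i) := fun i => (hF _).1 (e i).2
  have hinj : Function.Injective K := fun i j hij => e.injective (Subtype.ext hij)
  have hcomm : Pairwise fun i j => ∀ x y : G, x ∈ K i → y ∈ K j → Commute x y := fun i j hij x y hx hy =>
    (mem_centralizer_iff.1 (IsComponent.commute (hK i).1 (hK j).1 (fun e' => hij (hinj e')) hx) y hy).symm
  let ψ := noncommPiCoprod (H := K) hcomm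
  have hrange : ψ.range = commutator G := by
    rw [noncommPiCoprod_range, d.commutator_eq, ← hsup]
    refine le_antisymm (iSup_le fun i => Finset.le_sup (f := id) (e i).2) (Finset.sup_le fun L hL => ?_)
    refine le_iSup_of_le (e.symm ⟨L, hL⟩) ?_
    show L ≤ ((e (e.symm ⟨L, hL⟩) : {x // x ∈ F}) : Subgroup G)
    rw [Equiv.apply_symm_apply]
  have hsingle : ∀ i (y : ↥(K i)), ψ (Pi.mulSingle i y) = y := fun i y => noncommPiCoprod_mulSingle i y
  -- centralising a factor
  have hcent : ∀ (k : ∀ i, ↥(K i)) (i : Fin F.card) (y : ↥(K i)),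
      ψ k * (y : G) = y * ψ k ↔ k i * y = y * k i := by
    intro k i y
    have hother : ∀ k' : ∀ i, ↥(K i), k' i = 1 → ψ k' * (y : G) = y * ψ k' := fun k' hk' => by
      rw [← hsingle i y, ← map_mul, ← map_mul]
      congr 1
      funext j
      by_cases hj : j = i
      · subst hj; simp [hk']
      · simp [Pi.mulSingle_eq_of_ne hj]
    set k' := (Pi.mulSingle i (k i))⁻¹ * k with hk'def
    have hk' : k' i = 1 := by simp [hk'def]
    have hsplit : ψ k = (k i : G) * ψ k' := by
      rw [← hsingle i (k i), ← map_mul, hk'def, mul_inv_cancel_left]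
    have h := hother k' hk'
    constructor
    · intro heq
      refine Subtype.ext ?_
      show (k i : G) * y = y * k i
      apply mul_right_cancel (b := ψ k')
      calc (k i : G) * y * ψ k' = k i * (ψ k' * y) := by rw [h]; group
        _ = ψ k * y := by rw [hsplit]; group
        _ = y * ψ k := heq
        _ = _ := by rw [hsplit]; group
    · intro heq
      have heq' : (k i : G) * y = y * k i := congrArg Subtype.val heq
      rw [hsplit, mul_assoc, h, ← mul_assoc, heq', mul_assoc]
  let ψM : (∀ i, ↥(K i)) →* ↥(commutator G) := ψ.codRestrict _ fun k => hrange ▸ ⟨k, rfl⟩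
  have hψs : Function.Surjective ψM := fun x => by
    obtain ⟨k, hk⟩ := (hrange.symm ▸ x.2 : (x : G) ∈ ψ.range)
    exact ⟨k, Subtype.ext hk⟩
  let f := (QuotientGroup.mk' (center ↥(commutator G))).comp ψM
  let g : (∀ i, ↥(K i)) →* ((i : Fin F.card) → ↥(K i) ⧸ center ↥(K i)) :=
    MonoidHom.mk' (fun k i => QuotientGroup.mk' (center ↥(K i)) (k i)) fun a b => rfl
  have hf : Function.Surjective f := (QuotientGroup.mk'_surjective _).comp hψs
  have hg : Function.Surjective g := fun y => by
    choose k hk using fun i => QuotientGroup.mk'_surjective (center ↥(K i)) (y i)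
    exact ⟨k, funext hk⟩
  have hker : f.ker = g.ker := by
    ext k
    rw [MonoidHom.mem_ker, MonoidHom.mem_ker]
    constructor
    · intro hk
      have hc := mem_center_iff.1 ((QuotientGroup.eq_one_iff (ψM k)).1 hk)
      refine funext fun i => (QuotientGroup.eq_one_iff (k i)).2 (mem_center_iff.2 fun y => ?_)
      have hy : (y : G) ∈ commutator G := hrange ▸ ⟨Pi.mulSingle i y, hsingle i y⟩
      exact (((hcent k i y).1 (congrArg Subtype.val (hc ⟨y, hy⟩)).symm)).symm
    · intro hk
      refine (QuotientGroup.eq_one_iff (ψM k)).2 (mem_center_iff.2 fun x => Subtype.ext ?_)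
      show (x : G) * ψ k = ψ k * x
      have hle : commutator G ≤ centralizer ({ψ k} : Set G) := by
        rw [← hrange, noncommPiCoprod_range]
        refine iSup_le fun i y hy => mem_centralizer_singleton_iff.2 ?_
        refine ((hcent k i ⟨y, hy⟩).2 ?_).symm
        exact (mem_center_iff.1 ((QuotientGroup.eq_one_iff (k i)).1 (congrFun hk i)) ⟨y, hy⟩).symm
      exact mem_centralizer_singleton_iff.1 (hle x.2)
  refine ⟨Fin F.card, inferInstance, fun i => ↥(K i) ⧸ center ↥(K i), inferInstance,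
    fun i => ⟨(hK i).1.2.2, Fus.Gold.not_comm_quotient (hK i).1, d.factor_gold hub (hK i)⟩, ⟨?_⟩⟩
  exact (QuotientGroup.quotientKerEquivOfSurjective f hf).symm.trans
    ((QuotientGroup.quotientMulEquivOfEq hker).trans (QuotientGroup.quotientKerEquivOfSurjective g hg))

end Data

end Cfsg.Agent.Invol.AbelTwo.Closed
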